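import Mathlib.LinearAlgebra.Trace
import Mathlib.LinearAlgebra.Matrix.ToLin
import Mathlib.Algebra.CharP.Basic
import Mathlib.Tactic.NoncommRing
import Mathlib.Tactic.Abel
import Mathlib.Tactic.FieldSimp
import Mathlib.Tactic.LinearCombination

/-!
Commuting involutions all of whose products have trace `-4` in characteristic five.
-/
set_option autoImplicit false

namespace Cfsg.Agent.H56.D4Sec

/-- The products of the nonempty sublists. -/
def prods {M : Type*} [Mul M] : List M → List M
  | [] => []
  | a :: l => a :: (prods l ++ (prods l).map (a * ·))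

theorem prods_map {M N F : Type*} [Mul M] [Mul N] [FunLike F M N] [MulHomClass F M N] (f : F) :
    ∀ l : List M, prods (l.map f) = (prods l).map f
  | [] => rfl
  | a :: l => by
    simp only [List.map_cons, prods, prods_map f l, List.map_append, List.map_map]
    congr 2
    exact List.map_congr_left fun b _ => (map_mul f a b).symm

theorem prods_length {M : Type*} [Mul M] : ∀ l : List M, (prods l).length + 1 = 2 ^ l.length
  | [] => rfl
  | a :: l => by
    have := prods_length l
    simp only [prods, List.length_cons, List.length_append, List.length_map, pow_succ]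
    omega

theorem prods_commute {M : Type*} [Monoid M] {a : M} : ∀ {l : List M},
    (∀ b ∈ l, Commute a b) → ∀ x ∈ prods l, Commute a x
  | [], _, _, hx => by simp [prods] at hx
  | b :: l, h, x, hx => by
    simp only [prods, List.mem_cons, List.mem_append, List.mem_map] at hx
    have hb := h b (by simp)
    have hl := fun y hy => prods_commute (l := l) (fun c hc => h c (by simp [hc])) y hy
    rcases hx with rfl | hx | ⟨y, hy, rfl⟩
    · exact hb
    · exact hl x hx
    · exact hb.mul_right (hl y hy)

variable {K : Type*} [Field K] {V : Type*} [AddCommGroup V] [Module K V] [FiniteDimensional K V]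

open Module (End)

theorem rank_split {P Q : End K V} (hPQ : Commute P Q) (hQ : Q * Q = Q) :
    Module.finrank K (LinearMap.range (P * Q)) + Module.finrank K (LinearMap.range (P * (1 - Q)))
      ≤ Module.finrank K (LinearMap.range P) := by
  have hle : LinearMap.range (P * Q) ⊔ LinearMap.range (P * (1 - Q)) ≤ LinearMap.range P :=
    sup_le (LinearMap.range_comp_le_range Q P) (LinearMap.range_comp_le_range (1 - Q) P)
  have hdis : LinearMap.range (P * Q) ⊓ LinearMap.range (P * (1 - Q)) = ⊥ := by
    rw [eq_bot_iff]
    rintro v ⟨⟨a, rfl⟩, b, hb⟩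
    have h1 : Q * (P * (1 - Q)) = 0 := by
      rw [← mul_assoc, ← hPQ.eq, mul_assoc, mul_sub, mul_one, hQ, sub_self, mul_zero]
    have h2 : Q * (P * Q) = P * Q := by rw [← mul_assoc, ← hPQ.eq, mul_assoc, hQ]
    rw [Submodule.mem_bot]
    calc (P * Q) a = (Q * (P * Q)) a := by rw [h2]
      _ = Q ((P * Q) a) := rfl
      _ = (Q * (P * (1 - Q))) b := by rw [← hb]; rfl
      _ = 0 := by rw [h1]; rfl
  have := Submodule.finrank_sup_add_finrank_inf_eq (LinearMap.range (P * Q))
    (LinearMap.range (P * (1 - Q)))
  rw [hdis, finrank_bot, add_zero] at this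
  rw [← this]
  exact Submodule.finrank_mono hle

theorem rank_trace {P : End K V} (hP : P * P = P) :
    LinearMap.trace K V P = (Module.finrank K (LinearMap.range P) : K) :=
  (LinearMap.IsProj.trace (p := LinearMap.range P)
    ⟨fun x => ⟨x, rfl⟩, by rintro _ ⟨y, rfl⟩; exact LinearMap.congr_fun hP y⟩)

variable [CharP K 5]

theorem rank_bound {c : K} (hc : c = 0 ∨ c = -4) : ∀ (l : List (End K V)) (P : End K V),
    P * P = P → (∀ a ∈ l, a * a = 1 ∧ Commute P a) → l.Pairwise Commute →
    LinearMap.trace K V P = (2 : K) ^ (l.length + 1) + c →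
    (∀ x ∈ prods l, LinearMap.trace K V (P * x) = c) →
    2 ^ (l.length + 1) ≤ Module.finrank K (LinearMap.range P) := by
  intro l
  induction l generalizing c with
  | nil =>
    intro P hP _ _ htr _
    rw [rank_trace hP] at htr
    simp only [List.length_nil, zero_add, pow_one] at htr ⊢
    by_contra hlt
    have e : ((Module.finrank K (LinearMap.range P) : ℕ) : K) = ((2 : ℕ) : K) ∨
        ((Module.finrank K (LinearMap.range P) : ℕ) : K) = ((3 : ℕ) : K) := by
      rcases hc with rfl | rfl
      · left; rw [htr]; norm_num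
      · right
        rw [htr]
        have : ((5 : ℕ) : K) = 0 := CharP.cast_eq_zero K 5
        push_cast at this ⊢
        linear_combination -this
    generalize Module.finrank K (LinearMap.range P) = n at hlt e
    rcases e with e | e <;> rw [CharP.natCast_eq_natCast K 5, Nat.ModEq] at e <;> omega
  | cons a l ih =>
    intro P hP hl hpair htr hx
    obtain ⟨ha, hPa⟩ := hl a (by simp)
    obtain ⟨hal, hpl⟩ := List.pairwise_cons.1 hpair
    have h2 : (2 : K) ≠ 0 := by
      intro h
      have : ((2 : ℕ) : K) = 0 := by exact_mod_cast h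
      rw [CharP.cast_eq_zero_iff K 5] at this
      omega
    set Q : End K V := (2 : K)⁻¹ • (1 + a) with hQd
    have hQ' : (1 - Q) = (2 : K)⁻¹ • (1 - a) := by
      rw [hQd, eq_comm, eq_sub_iff_add_eq, ← smul_add,
        show (1 - a) + (1 + a) = (2 : K) • (1 : End K V) by rw [two_smul]; abel,
        inv_smul_smul₀ h2]
    have hQ : Q * Q = Q := by
      rw [hQd, smul_mul_assoc, mul_smul_comm]
      congr 1
      rw [show (1 + a) * (1 + a) = 1 + a * a + (a + a) by noncomm_ring, ha,
        show (1 : End K V) + 1 + (a + a) = (2 : K) • (1 + a) by rw [two_smul]; abel,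
        inv_smul_smul₀ h2]
    have hPQ : Commute P Q := ((Commute.one_right P).add_right hPa).smul_right _
    have hPQ' : Commute P (1 - Q) := (Commute.one_right P).sub_right hPQ
    have hQb : ∀ b ∈ l, Commute Q b := fun b hb =>
      ((Commute.one_left b).add_left (hal b hb)).smul_left _
    have key : ∀ R : End K V, Commute P R → R * R = R → (∀ b ∈ l, Commute R b) →
        (P * R) * (P * R) = P * R ∧ ∀ b ∈ l, b * b = 1 ∧ Commute (P * R) b := by
      intro R hR hRR hRb
      refine ⟨?_, fun b hb => ⟨(hl b (by simp [hb])).1,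
        (hl b (by simp [hb])).2.mul_left (hRb b hb)⟩⟩
      rw [mul_assoc, ← mul_assoc R, ← hR.eq, mul_assoc P R, hRR, ← mul_assoc, hP]
    have hQQ' : (1 - Q) * (1 - Q) = 1 - Q := by
      rw [sub_mul, one_mul, mul_sub, mul_one, hQ, sub_self, sub_zero]
    have hQ'b : ∀ b ∈ l, Commute (1 - Q) b := fun b hb =>
      (Commute.one_left b).sub_left (hQb b hb)
    have tQ : ∀ (e : K) (y : End K V),
        LinearMap.trace K V (P * ((2 : K)⁻¹ • (1 + e • a)) * y)
          = 2⁻¹ * (LinearMap.trace K V (P * y) + e * LinearMap.trace K V (P * (a * y))) := by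
      intro e y
      rw [mul_smul_comm, smul_mul_assoc, map_smul, mul_add, mul_one, add_mul, map_add,
        mul_smul_comm, smul_mul_assoc, map_smul, mul_assoc]
      rfl
    have ea : LinearMap.trace K V (P * a) = c := hx a (by simp [prods])
    have hy1 : ∀ y ∈ prods l, LinearMap.trace K V (P * y) = c := fun y hy =>
      hx y (by simp [prods, hy])
    have hy2 : ∀ y ∈ prods l, LinearMap.trace K V (P * (a * y)) = c := fun y hy =>
      hx _ (by simp only [prods, List.mem_cons, List.mem_append, List.mem_map]; exact Or.inr (Or.inr ⟨y, hy, rfl⟩))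
    have e1 : Q = (2 : K)⁻¹ • (1 + (1 : K) • a) := by rw [one_smul]
    have e2 : 1 - Q = (2 : K)⁻¹ • (1 + (-1 : K) • a) := by
      rw [hQ', neg_smul, one_smul, sub_eq_add_neg]
    have b1 : 2 ^ (l.length + 1) ≤ Module.finrank K (LinearMap.range (P * Q)) := by
      obtain ⟨k1, k2⟩ := key Q hPQ hQ hQb
      refine ih hc _ k1 k2 hpl ?_ fun y hy => ?_
      · have := tQ 1 1
        rw [← e1, mul_one, mul_one, mul_one, ea, htr] at this
        rw [this, List.length_cons, pow_succ (2 : K) (l.length + 1)]
        field_simp
        ring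
      · rw [e1, tQ, hy1 y hy, hy2 y hy]; field_simp; ring
    have b2 : 2 ^ (l.length + 1) ≤ Module.finrank K (LinearMap.range (P * (1 - Q))) := by
      obtain ⟨k1, k2⟩ := key (1 - Q) hPQ' hQQ' hQ'b
      refine ih (c := 0) (Or.inl rfl) _ k1 k2 hpl ?_ fun y hy => ?_
      · have := tQ (-1) 1
        rw [← e2, mul_one, mul_one, mul_one, ea, htr] at this
        rw [this, List.length_cons, pow_succ (2 : K) (l.length + 1)]
        field_simp
        ring
      · rw [e2, tQ, hy1 y hy, hy2 y hy]; ring
    have := rank_split hPQ hQ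
    rw [List.length_cons, pow_succ]
    omega

/-- Four commuting involutions of a space of dimension `28` with all traces `-4` do not exist. -/
theorem no_sixteen {ι : Type*} [Fintype ι] [DecidableEq ι] (hcard : Fintype.card ι = 28)
    (l : List (Matrix ι ι K)) (hlen : l.length = 4) (hsq : ∀ a ∈ l, a * a = 1)
    (hpair : l.Pairwise Commute) (htr : ∀ x ∈ prods l, Matrix.trace x = -4) : False := by
  let e := Matrix.toLinAlgEquiv' (R := K) (n := ι)
  have ht : ∀ A, LinearMap.trace K (ι → K) (e A) = Matrix.trace A := fun A =>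
    Matrix.trace_toLin'_eq A
  have := rank_bound (c := (-4 : K)) (Or.inr rfl) (l.map e) 1 (one_mul 1)
    (fun b hb => by
      obtain ⟨a, ha, rfl⟩ := List.mem_map.1 hb
      exact ⟨by rw [← map_mul, hsq a ha, map_one], Commute.one_left _⟩)
    (List.pairwise_map.2 (hpair.imp fun h => h.map e))
    (by
      rw [LinearMap.trace_one, Module.finrank_pi, hcard, List.length_map, hlen]
      norm_num)
    (fun x hx => by
      rw [prods_map] at hx
      obtain ⟨y, hy, rfl⟩ := List.mem_map.1 hx
      rw [one_mul, ht, htr y hy])
  have h2 := Submodule.finrank_le (LinearMap.range (1 : End K (ι → K)))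
  rw [Module.finrank_pi, hcard] at h2
  rw [List.length_map, hlen] at this
  omega

end Cfsg.Agent.H56.D4Sec
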