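import Mathlib.GroupTheory.SpecificGroups.Alternating.Simple
import Mathlib.GroupTheory.Perm.ViaEmbedding
import Cfsg.Agent.H56.D4Sec.Abelian

/-!
Small configurations inside alternating groups.
-/
set_option autoImplicit false
set_option maxRecDepth 100000

namespace Cfsg.Agent.H56.D4Sec

open Equiv

/-- The alternating group of degree `m` inside that of degree `n`. -/
theorem exists_altHom {m n : ℕ} (h : m ≤ n) :
    ∃ ι : ↥(alternatingGroup (Fin m)) →* ↥(alternatingGroup (Fin n)), Function.Injective ι := by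
  classical
  let f := (Fin.castLEEmb h).toEquivRange
  refine ⟨((Perm.extendDomainHom f).comp (alternatingGroup (Fin m)).subtype).codRestrict _
    fun s => ?_, fun a b e => Subtype.ext (Perm.extendDomainHom_injective f
      (congrArg Subtype.val e))⟩
  rw [Perm.mem_alternatingGroup]
  show Perm.sign (Perm.extendDomain (s : Perm (Fin m)) f) = 1
  rw [Perm.sign_extendDomain]
  exact s.2

theorem five_pair : ∃ x y : Perm (Fin 7), Perm.sign x = 1 ∧
    Perm.sign y = 1 ∧ x ^ 5 = 1 ∧ x ≠ 1 ∧ y * x * y⁻¹ = x ^ 2 :=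
  ⟨c[0, 1, 2, 3, 4], c[1, 2, 4, 3] * c[5, 6], by decide +kernel, by decide +kernel,
    by decide +kernel, by decide +kernel, by decide +kernel⟩

theorem seven_pair : ∃ x y : Perm (Fin 8), Perm.sign x = 1 ∧
    Perm.sign y = 1 ∧ x ^ 7 = 1 ∧ x ≠ 1 ∧ y * x * y⁻¹ = x ^ 2 :=
  ⟨c[0, 1, 2, 3, 4, 5, 6], c[1, 2, 4] * c[3, 6, 5], by decide +kernel, by decide +kernel,
    by decide +kernel, by decide +kernel, by decide +kernel⟩

/-- An involution given by its values. -/
def ofVals (v : Fin 8 → Fin 8) (h : ∀ i, v (v i) = i) : Perm (Fin 8) := ⟨v, v, h, h⟩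

/-- Four commuting involutions. -/
def fourL : List (Perm (Fin 8)) :=
  [ofVals ![1, 0, 3, 2, 4, 5, 6, 7] (by decide +kernel),
    ofVals ![2, 3, 0, 1, 4, 5, 6, 7] (by decide +kernel),
    ofVals ![0, 1, 2, 3, 5, 4, 7, 6] (by decide +kernel),
    ofVals ![0, 1, 2, 3, 6, 7, 4, 5] (by decide +kernel)]

theorem fourL_sign : ∀ a ∈ fourL, Perm.sign a = 1 := fun a ha =>
  of_decide_eq_true (List.all_eq_true.1
    (show (fourL.all fun a => decide (Perm.sign a = 1)) = true by decide +kernel) a ha)

theorem fourL_sq : ∀ a ∈ fourL, a * a = 1 := fun a ha =>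
  of_decide_eq_true (List.all_eq_true.1
    (show (fourL.all fun a => decide (a * a = 1)) = true by decide +kernel) a ha)

theorem fourL_comm : ∀ a ∈ fourL, ∀ b ∈ fourL, a * b = b * a := fun a ha b hb =>
  of_decide_eq_true (List.all_eq_true.1 (List.all_eq_true.1
    (show (fourL.all fun a => fourL.all fun b => decide (a * b = b * a)) = true by decide +kernel)
    a ha) b hb)

theorem fourL_prods : ∀ x ∈ prods fourL, x ≠ 1 := fun x hx =>
  of_decide_eq_true (List.all_eq_true.1
    (show ((prods fourL).all fun x => decide (x ≠ 1)) = true by decide +kernel) x hx)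

end Cfsg.Agent.H56.D4Sec
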