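import Cfsg.Agent.H37.Twist.Torus
import Cfsg.Agent.H37.Chev.GLForm
import Cfsg.Agent.Chevalley.Functorial

/-!
Root values of diagonal elements, linear action of the monomial representatives, extension of
scalars for the groups of tabulated Chevalley data.
-/
set_option autoImplicit false

namespace Cfsg.Agent.H56.D4Sec

open Cfsg.Lie Cfsg.Agent.H37 Cfsg.Agent.H37.RootSys

variable {D : ChevalleyDatum} {F : Type*} [Field F] (Q : Chev.Data D F)

/-- A root element. -/
abbrev xr (r : ℕ) (t : F) : ↥(D.group F) := RootSys.xG Q.K F r t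

theorem xr_inj {r : ℕ} (hr : r < D.nroots) {a b : F} (h : xr Q r a = xr Q r b) : a = b :=
  Twist.xG_inj Q hr h

/-- `h` multiplies the parameter of the root `r` by `a`. -/
def Val (h : ↥(D.group F)) (r : ℕ) (a : F) : Prop :=
  ∀ t, h * xr Q r t * h⁻¹ = xr Q r (a * t)

variable {Q}

theorem Val.unique {h : ↥(D.group F)} {r : ℕ} (hr : r < D.nroots) {a b : F} (ha : Val Q h r a)
    (hb : Val Q h r b) : a = b := by
  have h1 := (ha 1).symm.trans (hb 1)
  simpa using xr_inj Q hr h1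

variable (Q) in
theorem val_one (r : ℕ) : Val Q (1 : ↥(D.group F)) r 1 := fun t => by simp

theorem Val.mul {g h : ↥(D.group F)} {r : ℕ} {a b : F} (hg : Val Q g r a) (hh : Val Q h r b) :
    Val Q (g * h) r (a * b) := fun t => by
  calc g * h * xr Q r t * (g * h)⁻¹ = g * (h * xr Q r t * h⁻¹) * g⁻¹ := by group
    _ = xr Q r (a * (b * t)) := by rw [hh t, hg]
    _ = _ := by rw [mul_assoc]

theorem Val.pow {g : ↥(D.group F)} {r : ℕ} {a : F} (hg : Val Q g r a) :
    ∀ m : ℕ, Val Q (g ^ m) r (a ^ m)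
  | 0 => by simpa using val_one Q r
  | m + 1 => by rw [pow_succ, pow_succ]; exact (hg.pow m).mul hg

theorem val_tG (c : Fin D.rank → Fˣ) {r : ℕ} (hr : r < D.nroots) :
    Val Q (Twist.tG Q c) r (Twist.chT c r : F) := fun t => Twist.tG_conj Q c hr t

theorem exists_tG {h : ↥(D.group F)} (hh : h ∈ Q.sys.H) :
    ∃ c : Fin D.rank → Fˣ, h = Twist.tG Q c := by
  have h1 : (h : GL D.Idx F) ∈ D.diagonalSubgroup F := hh
  rw [Q.K.diagonalSubgroup_eq F] at h1
  obtain ⟨c, hc⟩ := h1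
  exact ⟨c, Subtype.ext hc.symm⟩

theorem exists_val {h : ↥(D.group F)} (hh : h ∈ Q.sys.H) {r : ℕ} (hr : r < D.nroots) :
    ∃ a : F, a ≠ 0 ∧ Val Q h r a := by
  obtain ⟨c, rfl⟩ := exists_tG hh
  exact ⟨_, Units.ne_zero _, val_tG c hr⟩

variable (Q) in
/-- `n` maps the root `r` to the root `s` linearly. -/
def Moves (n : ↥(D.group F)) (r s : ℕ) : Prop :=
  ∃ c : F, c ≠ 0 ∧ ∀ t, n * xr Q r t * n⁻¹ = xr Q s (c * t)

theorem Moves.comp {m n : ↥(D.group F)} {r s u : ℕ} (hn : Moves Q n r s) (hm : Moves Q m s u) :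
    Moves Q (m * n) r u := by
  obtain ⟨c, hc, e⟩ := hn
  obtain ⟨d, hd, e'⟩ := hm
  refine ⟨d * c, mul_ne_zero hd hc, fun t => ?_⟩
  calc m * n * xr Q r t * (m * n)⁻¹ = m * (n * xr Q r t * n⁻¹) * m⁻¹ := by group
    _ = _ := by rw [e t, e', mul_assoc]

theorem moves_H {h : ↥(D.group F)} (hh : h ∈ Q.sys.H) {r : ℕ} (hr : r < D.nroots) :
    Moves Q h r r := by
  obtain ⟨a, ha, e⟩ := exists_val hh hr
  exact ⟨a, ha, e⟩

theorem Moves.val {n h : ↥(D.group F)} {r s : ℕ} {a : F} (hn : Moves Q n r s)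
    (hv : Val Q h r a) : Val Q (n * h * n⁻¹) s a := by
  obtain ⟨c, hc, e⟩ := hn
  intro t
  have h1 : xr Q s t = n * xr Q r (c⁻¹ * t) * n⁻¹ := by rw [e, mul_inv_cancel_left₀ hc]
  calc n * h * n⁻¹ * xr Q s t * (n * h * n⁻¹)⁻¹
      = n * (h * xr Q r (c⁻¹ * t) * h⁻¹) * n⁻¹ := by rw [h1]; group
    _ = _ := by rw [hv, e]; congr 1; field_simp

theorem moves_ns {i : ℕ} (hi : i < Q.X.n) {r : ℕ} (hr : r < D.nroots) :
    Moves Q (Q.sys.ns i) r (Q.K.w i r) := by
  refine ⟨(Q.K.sg i r : F), ?_, fun t => Subtype.ext (Q.K.nS_conj_xU F (Q.rank_eq ▸ hi) hr t)⟩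
  rcases Q.K.sg_pm i r with h | h <;> simp [h]

theorem sigma_w {i r : ℕ} (hi : i < Q.X.n) (hr : r < D.nroots) :
    Q.X.C.sigma i r = Q.K.w i r := sigma_eq_w Q.X.good Q.K hi hr

theorem moves_rep (w : Q.X.M.Group) {r : ℕ} (hr : r < D.nroots) :
    Moves Q (Q.sys.rep w) r (Q.X.good.hom w ⟨r, hr⟩).val := by
  revert r
  refine Sys.gen_induction (p := fun w => ∀ {r : ℕ} (hr : r < D.nroots),
    Moves Q (Q.sys.rep w) r (Q.X.good.hom w ⟨r, hr⟩).val) ?_ ?_ w
  · intro r hr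
    simp only [map_one, Equiv.Perm.one_apply, Q.sys.rep_one]
    exact ⟨1, one_ne_zero, fun t => by simp⟩
  · intro i w ih r hr
    obtain ⟨k, hk, e⟩ := Q.sys.ns_rep (i := i) w
    have hlt : (Q.X.good.hom w ⟨r, hr⟩).val < D.nroots := Fin.isLt _
    have e1 : Q.sys.rep (Q.X.M.simple i * w) = k⁻¹ * (Q.sys.ns i * Q.sys.rep w) := by
      rw [e, inv_mul_cancel_left]
    have e2 : (Q.X.good.hom (Q.X.M.simple i * w) ⟨r, hr⟩).val
        = Q.K.w i (Q.X.good.hom w ⟨r, hr⟩).val := by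
      rw [map_mul, Equiv.Perm.mul_apply, Q.X.good.hom_simple_val]
      exact Q.K.w_reflect i (Q.rank_eq.symm ▸ i.isLt) _ hlt
    rw [e1, e2]
    exact ((ih hr).comp (moves_ns i.isLt hlt)).comp
      (moves_H (inv_mem hk) (Q.K.w_lt i (Q.rank_eq.symm ▸ i.isLt) _ hlt).1)

/-- Every root value is determined by the values at the fundamental roots. -/
theorem chT_root (c : Fin D.rank → Fˣ) {r : ℕ} (hr : r < D.nroots) :
    Twist.chT c r = ∏ j : Fin D.rank, Twist.chT c (D.simple j.val) ^ Q.K.cf r j.val := by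
  have hlin : ∀ m : Fin D.rank, D.cartan m.val r
      = ∑ j : Fin D.rank, Q.K.cf r j.val * D.cartan m.val (D.simple j.val) := fun m => by
    rw [Q.K.cartan_lin m.val m.isLt r hr, Chevalley.list_sum_range_map, Finset.sum_range]
  have hsum : ∀ (m : Fin D.rank) (f : Fin D.rank → ℤ), c m ^ (∑ j, f j) = ∏ j, c m ^ f j :=
    fun m f => by
      induction (Finset.univ : Finset (Fin D.rank)) using Finset.induction with
      | empty => simp
      | insert a s ha ih => rw [Finset.sum_insert ha, Finset.prod_insert ha, zpow_add, ih]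
  simp only [Twist.chT, ← Finset.prod_zpow, ← zpow_mul]
  rw [Finset.prod_comm]
  refine Finset.prod_congr rfl fun m _ => ?_
  rw [hlin m, hsum]
  refine Finset.prod_congr rfl fun j _ => ?_
  rw [mul_comm]

section Map

variable {E : Type*} [Field E] (f : F →+* E)

/-- Extension of scalars on the group. -/
def mapG : ↥(D.group F) →* ↥(D.group E) :=
  ((Matrix.GeneralLinearGroup.map f).comp (D.group F).subtype).codRestrict _
    fun g => Q.K.map_mem_group f g.2

theorem mapG_injective : Function.Injective (mapG (Q := Q) f) := by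
  intro g h e
  refine Subtype.ext (Units.ext (Matrix.ext fun a b => f.injective ?_))
  exact congrFun (congrFun (congrArg (fun z : ↥(D.group E) =>
    ((z : GL D.Idx E) : Matrix D.Idx D.Idx E)) e) a) b

theorem mapG_xr (r : ℕ) (t : F) :
    mapG (Q := Q) f (xr Q r t) = RootSys.xG Q.K E r (f t) :=
  Subtype.ext (Q.K.map_xU f r t)

theorem mapG_ns (i : ℕ) : mapG (Q := Q) f (Q.sys.ns i) = RootSys.nG Q.K E i :=
  Subtype.ext (Q.K.map_nS f i)

theorem mapG_diag {h : ↥(D.group F)} (hh : (h : GL D.Idx F) ∈ D.diagonalSubgroup F) :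
    (mapG (Q := Q) f h : GL D.Idx E) ∈ D.diagonalSubgroup E :=
  Q.K.map_mem_diag f hh

end Map

end Cfsg.Agent.H56.D4Sec
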