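import Cfsg.Agent.H56.D4Sec.Torality
import Cfsg.Agent.H56.D4Sec.Tables
import Cfsg.Agent.H37.Twist.D4Basic
import Mathlib.RingTheory.RootsOfUnity.PrimitiveRoots

/-!
Codes of diagonal elements of small order of `D₄` and their behaviour under conjugation.
-/
set_option autoImplicit false
set_option maxRecDepth 100000

namespace Cfsg.Agent.H56.D4Sec

open Cfsg.Lie Cfsg.Agent.H37 Cfsg.Agent.H37.RootSys

variable {L : Type*} [Field L] {r : ℕ}

/-- The root of unity with a given logarithm. -/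
abbrev rt (j : Multiplicative (ZMod r) →* Lˣ) (a : ZMod r) : Lˣ := j (Multiplicative.ofAdd a)

/-- `h` has the code `u`: its values at the fundamental roots. -/
def Code (j : Multiplicative (ZMod r) →* Lˣ) (h : ↥(chevD4.group L)) (u : Fin 4 → ZMod r) : Prop :=
  ∀ i : Fin 4, Val (QD L) h (chevD4.simple i.val) (rt j (u i) : L)

/-- The logarithm of the value at a root of an element with code `u`. -/
def lval (u : Fin 4 → ZMod r) (s : ℕ) : ZMod r :=
  ∑ m : Fin 4, ((Chevalley.D4.cert.cf s m.val : ℤ) : ZMod r) * u m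

theorem simple_lt4 (i : Fin 4) : chevD4.simple i.val < chevD4.nroots := by
  revert i; decide +kernel

variable {j : Multiplicative (ZMod r) →* Lˣ} {h : ↥(chevD4.group L)} {u : Fin 4 → ZMod r}

theorem rt_zero : rt j 0 = 1 := by rw [rt, ofAdd_zero, map_one]

theorem Code.chT {c : Fin chevD4.rank → Lˣ} (hu : Code j (Twist.tG (QD L) c) u) {s : ℕ}
    (hs : s < chevD4.nroots) : Twist.chT c s = rt j (lval u s) := by
  rw [chT_root (Q := QD L) c hs, rt, lval, ofAdd_sum, map_prod]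
  refine Finset.prod_congr rfl fun m _ => ?_
  have e : Twist.chT c (chevD4.simple m.val) = rt j (u m) :=
    Units.ext ((val_tG c (simple_lt4 m)).unique (simple_lt4 m) (hu m))
  rw [e, rt, ← map_zpow, ← ofAdd_zsmul, zsmul_eq_mul]

theorem Code.val_at (hh : h ∈ (QD L).sys.H) (hu : Code j h u) {s : ℕ} (hs : s < chevD4.nroots) :
    Val (QD L) h s (rt j (lval u s) : L) := by
  obtain ⟨c, rfl⟩ := exists_tG hh
  rw [← hu.chT hs]
  exact val_tG c hs

theorem Code.pow (hu : Code j h u) (m : ℕ) : Code j (h ^ m) fun i => (m : ZMod r) * u i :=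
  fun i => by
    have := (hu i).pow m
    rwa [← Units.val_pow_eq_pow_val, rt, ← map_pow, ← ofAdd_nsmul, nsmul_eq_mul] at this

theorem Code.unique (hj : Function.Injective j) (hu : Code j h u) {v : Fin 4 → ZMod r}
    (hv : Code j h v) : u = v := funext fun i =>
  Multiplicative.ofAdd.injective (hj (Units.ext ((hu i).unique (simple_lt4 i) (hv i))))

theorem exists_code [hr : Fact r.Prime] (hj : Function.Injective j) (hh : h ∈ (QD L).sys.H)
    (hhr : h ^ r = 1) : ∃ u, Code j h u := by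
  have hz : IsPrimitiveRoot ((rt j 1 : Lˣ) : L) r := by
    rw [IsPrimitiveRoot.iff_orderOf, orderOf_units, rt, orderOf_injective j hj,
      orderOf_ofAdd_eq_addOrderOf, ZMod.addOrderOf_one]
  have key : ∀ i : Fin 4, ∃ a : ZMod r, Val (QD L) h (chevD4.simple i.val) (rt j a : L) := by
    intro i
    obtain ⟨a, -, ha⟩ := exists_val hh (simple_lt4 i)
    have h1 : a ^ r = 1 := by
      have := ha.pow r
      rw [hhr] at this
      exact this.unique (simple_lt4 i) (val_one (QD L) _)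
    obtain ⟨k, -, hk⟩ := hz.eq_pow_of_pow_eq_one h1
    refine ⟨k, ?_⟩
    rw [show (rt j (k : ZMod r) : L) = a by
      rw [← hk, ← Units.val_pow_eq_pow_val, rt, rt, ← map_pow, ← ofAdd_nsmul, nsmul_one]]
    exact ha
  choose u hu using key
  exact ⟨u, hu⟩

theorem Code.eq_one (hh : h ∈ (QD L).sys.H) (hu : Code j h 0) : h = 1 := by
  obtain ⟨c, rfl⟩ := exists_tG hh
  refine Subtype.ext ?_
  show Chevalley.torus chevD4 L c = 1
  rw [← Chevalley.dU_one]
  show Chevalley.dU _ = Chevalley.dU _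
  congr 1
  funext x
  rcases x with i | s
  · simp [Chevalley.pe]
  · have e : Twist.chT c s.val = 1 := by
      rw [hu.chT s.isLt]; simp [lval, rt_zero]
    rw [Pi.one_apply, ← e]
    refine Finset.prod_congr rfl fun m _ => ?_
    rw [← (QD L).K.pairing_simple m.isLt]
    rfl

/-- A trivial code means a trivial element. -/
theorem code_ne_zero (hh : h ∈ (QD L).sys.H) (h1 : h ≠ 1) (hu : Code j h u) : u ≠ 0 := by
  rintro rfl; exact h1 (hu.eq_one hh)

theorem lval_w (i m : Fin 4) :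
    lval u ((QD L).K.w i.val (chevD4.simple m.val)) = refl i u m := by
  have e : ∀ (i m a : Fin 4), Chevalley.D4.cert.cf (Chevalley.D4.cert.w i.val (chevD4.simple m.val))
      a.val = (![![![-1, 0, 0, 0], ![1, 1, 0, 0], ![0, 0, 1, 0], ![0, 0, 0, 1]],
        ![![1, 1, 0, 0], ![0, -1, 0, 0], ![0, 1, 1, 0], ![0, 1, 0, 1]],
        ![![1, 0, 0, 0], ![0, 1, 1, 0], ![0, 0, -1, 0], ![0, 0, 0, 1]],
        ![![1, 0, 0, 0], ![0, 1, 0, 1], ![0, 0, 1, 0], ![0, 0, 0, -1]]] :
        Fin 4 → Fin 4 → Fin 4 → ℤ) i m a := by decide +kernel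
  simp only [lval, e, Fin.sum_univ_four]
  fin_cases i <;> fin_cases m <;> simp [refl, add_comm]

theorem w_w_simple (i m : Fin 4) : Chevalley.D4.cert.w i.val
      (Chevalley.D4.cert.w i.val (chevD4.simple m.val)) = chevD4.simple m.val ∧
    Chevalley.D4.cert.w i.val (chevD4.simple m.val) < chevD4.nroots := by
  revert i m; decide +kernel

theorem Code.ns (hh : h ∈ (QD L).sys.H) (hu : Code j h u) (i : Fin 4) :
    Code j ((QD L).sys.ns i.val * h * ((QD L).sys.ns i.val)⁻¹) (refl i u) := by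
  intro m
  obtain ⟨e, hlt⟩ := w_w_simple i m
  have h1 := (moves_ns (Q := QD L) (i := i.val) i.isLt hlt).val (hu.val_at hh hlt)
  rw [show (QD L).K.w i.val ((QD L).K.w i.val (chevD4.simple m.val)) = chevD4.simple m.val from e]
    at h1
  rwa [show Chevalley.D4.cert.w i.val (chevD4.simple m.val)
    = (QD L).K.w i.val (chevD4.simple m.val) from rfl, lval_w] at h1

theorem H_comm {a b : ↥(chevD4.group L)} (ha : a ∈ (QD L).sys.H) (hb : b ∈ (QD L).sys.H) :
    a * b = b * a := by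
  obtain ⟨c, rfl⟩ := exists_tG ha
  obtain ⟨d, rfl⟩ := exists_tG hb
  rw [← map_mul, ← map_mul, mul_comm]

theorem Code.rep (w : (QD L).X.M.Group) :
    ∃ l : List (Fin 4), ∀ {r : ℕ} (j : Multiplicative (ZMod r) →* Lˣ) (h : ↥(chevD4.group L))
      (u : Fin 4 → ZMod r), h ∈ (QD L).sys.H → Code j h u →
        Code j ((QD L).sys.rep w * h * ((QD L).sys.rep w)⁻¹) (l.foldr refl u) := by
  refine Sys.gen_induction (p := fun w => ∃ l : List (Fin 4), ∀ {r : ℕ}
      (j : Multiplicative (ZMod r) →* Lˣ) (h : ↥(chevD4.group L))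
      (u : Fin 4 → ZMod r), h ∈ (QD L).sys.H → Code j h u →
        Code j ((QD L).sys.rep w * h * ((QD L).sys.rep w)⁻¹) (l.foldr refl u)) ?_ ?_ w
  · refine ⟨[], fun j h u _ hu => ?_⟩
    simpa [(QD L).sys.rep_one] using hu
  · intro i w ⟨l, hl⟩
    obtain ⟨k, hk, e⟩ := (QD L).sys.ns_rep (i := i) w
    refine ⟨i :: l, fun j h u hh hu => ?_⟩
    have e1 : (QD L).sys.rep ((QD L).X.M.simple i * w)
        = k⁻¹ * ((QD L).sys.ns i * (QD L).sys.rep w) := by rw [e, inv_mul_cancel_left]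
    have hy := (QD L).sys.rep_conj_H w hh
    have hy' := (QD L).sys.n_conj_H i.val i.isLt _ hy
    have e2 : (QD L).sys.rep ((QD L).X.M.simple i * w) * h *
        ((QD L).sys.rep ((QD L).X.M.simple i * w))⁻¹
        = (QD L).sys.ns i * ((QD L).sys.rep w * h * ((QD L).sys.rep w)⁻¹) *
          ((QD L).sys.ns i)⁻¹ := by
      rw [e1]
      calc k⁻¹ * ((QD L).sys.ns i * (QD L).sys.rep w) * h *
            (k⁻¹ * ((QD L).sys.ns i * (QD L).sys.rep w))⁻¹
          = k⁻¹ * ((QD L).sys.ns i * ((QD L).sys.rep w * h * ((QD L).sys.rep w)⁻¹) *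
              ((QD L).sys.ns i)⁻¹) * k := by group
        _ = _ := by rw [H_comm (inv_mem hk) hy', inv_mul_cancel_right]
    rw [e2]
    exact (hl j h u hh hu).ns hy i

/-- Diagonal elements conjugate in the group are conjugate by a monomial element. -/
theorem fusion (g : ↥(chevD4.group L)) :
    ∃ w, ∀ h₁ ∈ (QD L).sys.H, ∀ h₂ ∈ (QD L).sys.H, g * h₁ * g⁻¹ = h₂ →
      (QD L).sys.rep w * h₁ * ((QD L).sys.rep w)⁻¹ = h₂ := by
  obtain ⟨u, hu, h, hh, w, v, hv, rfl⟩ := (QD L).amb.exists_eq g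
  refine ⟨w, fun h₁ h1 h₂ h2 hc => ?_⟩
  have hv' : h₁⁻¹ * v * h₁⁻¹⁻¹ ∈ (QD L).amb.Uw w :=
    conj_mem_XS (fun s hs t => by
      obtain ⟨t', e⟩ := (QD L).sys.h_conj _ (inv_mem h1) s (Sys.mem_flip.1 hs).1 t
      rw [e]
      exact x_mem_XS (x := (QD L).sys.x) hs t') hv
  have e : h₂ * u * h₂⁻¹ * (h₂ * h) * (QD L).sys.rep w * v
      = u * (h * ((QD L).sys.rep w * h₁ * ((QD L).sys.rep w)⁻¹)) * (QD L).sys.rep w *
        (h₁⁻¹ * v * h₁⁻¹⁻¹) := by
    rw [← (show u * h * (QD L).sys.rep w * v * h₁ * (u * h * (QD L).sys.rep w * v)⁻¹ = h₂ from hc)]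
    group
  obtain ⟨-, -, e2, -⟩ := (QD L).amb.unique ((QD L).sys.H_conj_U h2 hu) hu (mul_mem h2 hh)
    (mul_mem hh ((QD L).sys.rep_conj_H w h1)) hv hv' e
  rw [H_comm hh ((QD L).sys.rep_conj_H w h1)] at e2
  exact (mul_right_cancel e2).symm

theorem foldr_inv {α : Type*} {f : (Fin 4 → ZMod r) → α} (hf : ∀ i u, f (refl i u) = f u)
    (l : List (Fin 4)) (u : Fin 4 → ZMod r) : f (l.foldr refl u) = f u := by
  induction l with
  | nil => rfl
  | cons a l ih => rw [List.foldr_cons, hf, ih]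

/-- Conjugate diagonal elements have the same classes. -/
theorem class_eq {α : Type*} {f : (Fin 4 → ZMod r) → α} (hf : ∀ i u, f (refl i u) = f u)
    (hj : Function.Injective j) {h₂ : ↥(chevD4.group L)} {v : Fin 4 → ZMod r}
    (hh : h ∈ (QD L).sys.H) (h2 : h₂ ∈ (QD L).sys.H) (hu : Code j h u) (hv : Code j h₂ v)
    (hc : ∃ g, g * h * g⁻¹ = h₂) : f v = f u := by
  obtain ⟨g, hg⟩ := hc
  obtain ⟨w, hw⟩ := fusion g
  obtain ⟨l, hl⟩ := Code.rep w
  have := hl j h u hh hu
  rw [hw h hh h₂ h2 hg] at this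
  rw [this.unique hj hv |>.symm, foldr_inv hf]

theorem exists_zc (l : List (Fin 4)) (z : Fin 3) : ∃ z', l.foldr refl (zc z) = zc z' := by
  induction l with
  | nil => exact ⟨z, rfl⟩
  | cons a l ih => obtain ⟨z', e⟩ := ih; exact ⟨zref a z', by rw [List.foldr_cons, e, zc_refl]⟩

theorem zc_injective : Function.Injective zc := by decide +kernel

theorem id7_foldr (l : List (Fin 4)) (z z' : Fin 3) (u : Fin 4 → ZMod 7)
    (e : l.foldr refl (zc z) = zc z') : id7 z' (l.foldr refl u) = id7 z u := by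
  induction l generalizing z' with
  | nil => obtain rfl := zc_injective e; rfl
  | cons a l ih =>
    obtain ⟨z₁, e₁⟩ := exists_zc l z
    rw [List.foldr_cons, e₁, zc_refl] at e
    obtain rfl := zc_injective e
    rw [List.foldr_cons, id7_refl, ih z₁ e₁]

/-- No element fixes a special involution and squares an element of order seven. -/
theorem no_square {j₂ : Multiplicative (ZMod 2) →* Lˣ} (hj₂ : Function.Injective j₂)
    {j₇ : Multiplicative (ZMod 7) →* Lˣ} (hj₇ : Function.Injective j₇)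
    {z x : ↥(chevD4.group L)} (hz : z ∈ (QD L).sys.H) (hx : x ∈ (QD L).sys.H) (hx1 : x ≠ 1)
    (hx7 : x ^ 7 = 1) {c : Fin 3} (hzc : Code j₂ z (zc c)) {g : ↥(chevD4.group L)}
    (hgz : g * z * g⁻¹ = z) (hgx : g * x * g⁻¹ = x ^ 2) : False := by
  have : Fact (Nat.Prime 7) := ⟨by norm_num⟩
  obtain ⟨u, hu⟩ := exists_code hj₇ hx hx7
  obtain ⟨w, hw⟩ := fusion g
  obtain ⟨l, hl⟩ := Code.rep w
  have h1 := hl j₂ z _ hz hzc
  rw [hw z hz z hz hgz] at h1
  have h2 := hl j₇ x _ hx hu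
  rw [hw x hx _ (pow_mem hx 2) hgx] at h2
  have e2 := h2.unique hj₇ (hu.pow 2)
  have e := id7_foldr l c c u (h1.unique hj₂ hzc)
  rw [e2] at e
  exact id7_sq (code_ne_zero hx hx1 hu) (by simpa using e)

end Cfsg.Agent.H56.D4Sec
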