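import Cfsg.Agent.H56.D4Sec.Basic
import Cfsg.Agent.Chevalley.Mono

/-!
An involution of a tabulated Chevalley group can be moved to a shorter Bruhat cell by conjugation,
after adjoining one root of a quadratic equation.
-/
set_option autoImplicit false

namespace Cfsg.Agent.H56.D4Sec

open Cfsg.Lie Cfsg.Agent.H37 Cfsg.Agent.H37.RootSys

variable {D : ChevalleyDatum} {F : Type*} [Field F] {Q : Chev.Data D F}

theorem inv_inv_eq {n : ℕ} {M : CoxeterMatrix (Fin n)} {C : Weyl.Cert}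
    (hC : Weyl.Good C D M) (w : M.Group) : hC.inv w⁻¹ = hC.inv w := by
  have hev := hC.even
  have hneg : ∀ (g : M.Group) (r : Fin D.nroots),
      (hC.hom g ⟨D.nroots - 1 - r.val, by have := r.isLt; omega⟩).val
        = D.nroots - 1 - (hC.hom g r).val := fun g r => by rw [hC.hom_neg g r]
  have hv : ∀ (g : M.Group) (r : Fin D.nroots) (k : ℕ) (hk : k < D.nroots), (hC.hom g r).val = k →
      (hC.hom g⁻¹ ⟨k, hk⟩).val = r.val := by
    intro g r k hk e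
    rw [show (⟨k, hk⟩ : Fin D.nroots) = hC.hom g r from Fin.ext e.symm, map_inv,
      ← Equiv.Perm.mul_apply, inv_mul_cancel, Equiv.Perm.one_apply]
  let φ : M.Group → Fin D.nroots → Fin D.nroots := fun g r =>
    ⟨D.nroots - 1 - (hC.hom g r).val, by have := r.isLt; omega⟩
  have hback : ∀ (g : M.Group) (r : Fin D.nroots), φ g⁻¹ (φ g r) = r := by
    intro g r
    refine Fin.ext ?_
    show D.nroots - 1 - (hC.hom g⁻¹ ⟨D.nroots - 1 - (hC.hom g r).val, _⟩).val = r.val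
    rw [hneg g⁻¹ (hC.hom g r), hv g r _ (Fin.isLt _) rfl]
    have := r.isLt
    omega
  have hmem : ∀ (g : M.Group) (r : Fin D.nroots),
      D.nroots / 2 ≤ r.val → (hC.hom g r).val < D.nroots / 2 →
        D.nroots / 2 ≤ (φ g r).val ∧ (hC.hom g⁻¹ (φ g r)).val < D.nroots / 2 := by
    intro g r h1 h2
    refine ⟨?_, ?_⟩
    · show D.nroots / 2 ≤ D.nroots - 1 - (hC.hom g r).val
      omega
    · show (hC.hom g⁻¹ ⟨D.nroots - 1 - (hC.hom g r).val, _⟩).val < _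
      rw [hneg g⁻¹ (hC.hom g r), hv g r _ (Fin.isLt _) rfl]
      have := r.isLt
      omega
  unfold Weyl.Good.inv
  refine Finset.card_nbij' (φ w⁻¹) (φ w) ?_ ?_ ?_ ?_
  · intro r hr
    simp only [Finset.mem_coe, Finset.mem_filter, Finset.mem_univ, true_and] at hr ⊢
    simpa using hmem w⁻¹ r hr.1 hr.2
  · intro r hr
    simp only [Finset.mem_coe, Finset.mem_filter, Finset.mem_univ, true_and] at hr ⊢
    exact hmem w r hr.1 hr.2
  · intro r _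
    simpa using hback w⁻¹ r
  · intro r _
    exact hback w r

variable (Q) in
/-- The positive roots other than `α`. -/
def rest (α : ℕ) : Subgroup ↥(D.group F) := XS Q.sys.x {r | r ∈ posSet D ∧ r ≠ α}

theorem rest_le (α : ℕ) : rest Q α ≤ Q.sys.U :=
  XS_mono fun _ hr => Finset.mem_coe.2 hr.1

theorem rest_conj {α : ℕ} (hα : α ∈ posSet D) (t : F) {u : ↥(D.group F)} (hu : u ∈ rest Q α) :
    xr Q α t * u * (xr Q α t)⁻¹ ∈ rest Q α := by
  refine conj_mem_XS (fun r hr s => ?_) hu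
  have hP : ∀ k ∈ posSet D, k ∈ Q.sys.P := fun k hk => Q.sys.P_eq.symm ▸ hk
  have h1 := Q.sys.comm (hP α hα) (hP r hr.1) (Ne.symm hr.2) t s
  have h2 : XS Q.sys.x {k | Q.sys.T α r k} ≤ rest Q α := XS_mono fun k hk => by
    obtain ⟨h3, h4, -⟩ := Q.sys.T_pos (hP α hα) (hP r hr.1) hk
    exact ⟨Q.sys.P_eq ▸ h3, by omega⟩
  show Q.sys.x α t * Q.sys.x r s * (Q.sys.x α t)⁻¹ ∈ rest Q α
  have := mul_mem (h2 h1) (x_mem_XS (x := Q.sys.x) hr s)
  simpa using this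

theorem mem_single {α : ℕ} (hα : α < D.nroots) {b : ↥(D.group F)}
    (hb : b ∈ XS Q.sys.x ({α} : Set ℕ)) : ∃ t, b = xr Q α t := by
  induction hb using Subgroup.closure_induction with
  | mem g hg => obtain ⟨r, rfl, t, rfl⟩ := hg; exact ⟨t, rfl⟩
  | one => exact ⟨0, (Q.sys.x_zero' hα).symm⟩
  | mul x y _ _ hx hy =>
      obtain ⟨t, rfl⟩ := hx; obtain ⟨t', rfl⟩ := hy
      exact ⟨t + t', (Q.sys.x_add' α hα t t').symm⟩
  | inv x _ hx =>
      obtain ⟨t, rfl⟩ := hx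
      exact ⟨-t, inv_eq_of_mul_eq_one_left (by
        show Q.sys.x α (-t) * Q.sys.x α t = 1
        rw [← Q.sys.x_add' α hα, neg_add_cancel, Q.sys.x_zero' hα])⟩

theorem xr_add {α : ℕ} (hα : α < D.nroots) (s t : F) :
    xr Q α (s + t) = xr Q α s * xr Q α t := Q.sys.x_add' α hα s t

theorem xr_neg {α : ℕ} (hα : α < D.nroots) (t : F) : xr Q α (-t) = (xr Q α t)⁻¹ :=
  eq_inv_of_mul_eq_one_left (by
    rw [← xr_add hα, neg_add_cancel]; exact Q.sys.x_zero' hα)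

theorem split_left {α : ℕ} (hα : α ∈ posSet D) {u : ↥(D.group F)} (hu : u ∈ Q.sys.U) :
    ∃ a ∈ rest Q α, ∃ b, u = a * xr Q α b := by
  obtain ⟨a, ha, b, hb, e⟩ := Q.sys.toUnip.exists_split (Q.sys.P_eq ▸ Q.sys.toUnip.closed_P)
    {r | r ∈ posSet D ∧ r ≠ α} {α} (fun r hr => by
      by_cases h : r = α
      · exact Or.inr h
      · exact Or.inl ⟨hr, h⟩) hu
  obtain ⟨t, rfl⟩ := mem_single (mem_posSet.1 hα).1 hb
  exact ⟨a, ha, t, e⟩

theorem split_right {α : ℕ} (hα : α ∈ posSet D) {u : ↥(D.group F)} (hu : u ∈ Q.sys.U) :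
    ∃ b, ∃ a ∈ rest Q α, u = xr Q α b * a := by
  obtain ⟨a, ha, b, rfl⟩ := split_left hα hu
  refine ⟨b, (xr Q α b)⁻¹ * a * xr Q α b, ?_, by group⟩
  have := rest_conj hα (-b) ha
  rwa [xr_neg (mem_posSet.1 hα).1, inv_inv] at this

theorem simple_pos {i : ℕ} (hi : i < Q.X.n) : D.simple i ∈ posSet D :=
  mem_posSet.2 ⟨(Q.X.good.simple_spec hi).2.1, (Q.X.good.simple_spec hi).1⟩

theorem w_simple_eq {i : ℕ} (hi : i < Q.X.n) :
    Q.K.w i (D.simple i) = D.neg (D.simple i) := Q.K.w_simple (Q.rank_eq.symm ▸ hi)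

theorem ns_conj_rest {i : ℕ} (hi : i < Q.X.n) {u : ↥(D.group F)} (hu : u ∈ rest Q (D.simple i)) :
    Q.sys.ns i * u * (Q.sys.ns i)⁻¹ ∈ Q.sys.U ∧ (Q.sys.ns i)⁻¹ * u * Q.sys.ns i ∈ Q.sys.U := by
  have h1 : Q.sys.ns i * u * (Q.sys.ns i)⁻¹ ∈ Q.sys.U := conj_mem_XS (fun r hr t => by
    obtain ⟨h1, h2⟩ := mem_posSet.1 hr.1
    obtain ⟨t', e⟩ := Q.sys.n_conj i hi r h1 t
    rw [e]
    exact Q.sys.x_mem_U (Q.X.good.sigma_spec hi h1).1
      ((Q.X.good.sigma_spec hi h1).2.2.2.2 h2 hr.2) t') hu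
  refine ⟨h1, ?_⟩
  have := Q.sys.H_conj_U (inv_mem (Q.sys.sq i hi)) h1
  convert this using 1
  group

theorem ns_left {i : ℕ} (hi : i < Q.X.n) {w : Q.X.M.Group} {g : ↥(D.group F)}
    (hg : g ∈ Q.sys.cell w) :
    (Q.sys.ns i)⁻¹ * g ∈ Q.sys.cell (Weyl.gen Q.X.M i * w) ∨
      (Q.sys.ns i)⁻¹ * g ∈ Q.sys.cell w := by
  have hg1 := Q.sys.cell_inv hg
  have e : (Q.sys.ns i)⁻¹ * g = (g⁻¹ * Q.sys.ns i)⁻¹ := by group
  rw [e]
  have hs : (Q.X.M.simple ⟨i, hi⟩)⁻¹ = Q.X.M.simple ⟨i, hi⟩ :=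
    inv_eq_of_mul_eq_one_right (Q.X.M.toCoxeterSystem.simple_mul_simple_self _)
  rw [show Weyl.gen Q.X.M i = Q.X.M.simple ⟨i, hi⟩ from Sys.gen_eq ⟨i, hi⟩]
  rcases Q.sys.step_right ⟨i, hi⟩ hg1 with h | h
  · left
    simpa [hs] using Q.sys.cell_inv h
  · right
    simpa using Q.sys.cell_inv h

theorem rep_mul_ns {i : ℕ} (hi : i < Q.X.n) (w : Q.X.M.Group) :
    ∃ h ∈ Q.sys.H, Q.sys.rep w * Q.sys.ns i = h * Q.sys.rep (w * Weyl.gen Q.X.M i) := by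
  obtain ⟨k, hk, e⟩ := Q.sys.rep_mul w (Q.X.M.simple ⟨i, hi⟩)
  obtain ⟨h, hh, e'⟩ := Q.sys.rep_simple ⟨i, hi⟩
  refine ⟨(Q.sys.rep w * h * (Q.sys.rep w)⁻¹)⁻¹ * k,
    mul_mem (inv_mem (Q.sys.rep_conj_H w hh)) hk, ?_⟩
  rw [show Weyl.gen Q.X.M i = Q.X.M.simple ⟨i, hi⟩ from Sys.gen_eq ⟨i, hi⟩, mul_assoc, ← e, e']
  group

/-- The descent root `α` is not negated: a conjugate lies in a shorter cell. -/
theorem descend_general {z : ↥(D.group F)} {w : Q.X.M.Group} {i : ℕ} (hi : i < Q.X.n)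
    (hw : w⁻¹ = w)
    (hneg : (Q.X.good.hom w ⟨D.simple i, (Q.X.good.simple_spec hi).2.1⟩).val < D.nroots / 2)
    (hne : (Q.X.good.hom w ⟨D.simple i, (Q.X.good.simple_spec hi).2.1⟩).val ≠ D.neg (D.simple i))
    (hz : z ∈ Q.sys.cell w) :
    ∃ g w', Q.X.good.inv w' < Q.X.good.inv w ∧ g * z * g⁻¹ ∈ Q.sys.cell w' := by
  have hs := Q.X.good.simple_spec hi
  set α := D.simple i
  set s := Weyl.gen Q.X.M i with hsdef
  obtain ⟨u, hu, h, hh, v, hv, rfl⟩ := Q.sys.cell_nf hz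
  obtain ⟨b, a, ha, rfl⟩ := split_right (simple_pos hi) (Q.sys.Uw_le w hv)
  have ha' : xr Q α b * a * (xr Q α b)⁻¹ ∈ rest Q α := rest_conj (simple_pos hi) b ha
  obtain ⟨k, hk, ek⟩ := rep_mul_ns hi w
  have hy : (xr Q α b * (u * h * Q.sys.rep w * (xr Q α b * a)) * (xr Q α b)⁻¹) * Q.sys.ns i
      ∈ Q.sys.cell (w * s) := by
    have e : (xr Q α b * (u * h * Q.sys.rep w * (xr Q α b * a)) * (xr Q α b)⁻¹) * Q.sys.ns i
        = (xr Q α b * u) * ((h * k) * Q.sys.rep (w * s)) *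
          ((Q.sys.ns i)⁻¹ * (xr Q α b * a * (xr Q α b)⁻¹) * Q.sys.ns i) := by
      rw [show h * k * Q.sys.rep (w * s) = h * (k * Q.sys.rep (w * s)) by group, hsdef, ← ek]
      group
    rw [e]
    exact Q.sys.cell_right_U (ns_conj_rest hi ha').2
      (Q.sys.cell_left_U (mul_mem (Q.sys.x_mem_U hs.2.1 hs.1 b) hu)
        (Q.sys.cell_left_H (mul_mem hh hk) (Q.sys.rep_mem_cell _)))
  have hlen : Q.X.good.inv (w * s) + 1 = Q.X.good.inv w := Q.X.good.inv_mul_gen_neg hi hneg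
  have hlen' : Q.X.good.inv (s * w * s) + 1 = Q.X.good.inv (s * w) := by
    refine Q.X.good.inv_mul_gen_neg hi ?_
    rw [map_mul, Equiv.Perm.mul_apply, Q.X.good.hom_gen_val hi]
    have hl : (Q.X.good.hom w ⟨α, hs.2.1⟩).val < D.nroots := Fin.isLt _
    rw [sigma_w hi hl]
    by_contra hc
    rw [not_lt] at hc
    have h1 := Q.K.w_pos i (Q.rank_eq.symm ▸ hi) _
      (Q.K.w_lt i (Q.rank_eq.symm ▸ hi) _ hl).1 hc
    rw [(Q.K.w_lt i (Q.rank_eq.symm ▸ hi) _ hl).2] at h1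
    refine absurd (h1 fun e => hne ?_) (not_le.2 hneg)
    have := congrArg (Q.K.w i) e
    rwa [(Q.K.w_lt i (Q.rank_eq.symm ▸ hi) _ hl).2, w_simple_eq hi] at this
  have hsw : Q.X.good.inv (s * w) = Q.X.good.inv (w * s) := by
    rw [← inv_inv_eq Q.X.good (w * s), mul_inv_rev, hw, Weyl.gen_inv]
  refine ⟨(Q.sys.ns i)⁻¹ * xr Q α b, ?_⟩
  have e2 : ((Q.sys.ns i)⁻¹ * xr Q α b) * (u * h * Q.sys.rep w * (xr Q α b * a)) *
      ((Q.sys.ns i)⁻¹ * xr Q α b)⁻¹ = (Q.sys.ns i)⁻¹ *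
        ((xr Q α b * (u * h * Q.sys.rep w * (xr Q α b * a)) * (xr Q α b)⁻¹) * Q.sys.ns i) := by
    group
  rcases ns_left hi hy with h1 | h1
  · refine ⟨s * (w * s), ?_, by rwa [e2]⟩
    rw [← mul_assoc]
    omega
  · exact ⟨w * s, by omega, by rwa [e2]⟩

/-- The element after splitting off the fundamental root `α`, with `α` negated by `w`. -/
theorem exists_shape {z : ↥(D.group F)} {w : Q.X.M.Group} {i : ℕ} (hi : i < Q.X.n)
    (heq : (Q.X.good.hom w ⟨D.simple i, (Q.X.good.simple_spec hi).2.1⟩).val = D.neg (D.simple i))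
    (hz : z ∈ Q.sys.cell w) :
    ∃ g, ∃ u ∈ rest Q (D.simple i), ∃ b c : F, c ≠ 0 ∧ ∃ h ∈ Q.sys.H,
      ∃ a ∈ rest Q (D.simple i),
        g * z * g⁻¹ = u * xr Q (D.simple i) b * (h * Q.sys.rep w) * a ∧
          ∀ t, (h * Q.sys.rep w) * xr Q (D.simple i) t * (h * Q.sys.rep w)⁻¹ =
            xr Q (D.neg (D.simple i)) (c * t) := by
  have hs := Q.X.good.simple_spec hi
  set α := D.simple i
  obtain ⟨u, hu, h, hh, v, hv, rfl⟩ := Q.sys.cell_nf hz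
  obtain ⟨b, a, ha, rfl⟩ := split_right (simple_pos hi) (Q.sys.Uw_le w hv)
  obtain ⟨u', hu', b', e'⟩ := split_left (simple_pos hi)
    (mul_mem (Q.sys.x_mem_U hs.2.1 hs.1 b) hu)
  obtain ⟨c, hc, ec⟩ := (moves_rep w hs.2.1).comp (moves_H hh (Fin.isLt _))
  rw [heq] at ec
  refine ⟨xr Q α b, u', hu', b', c, hc, h, hh, _, rest_conj (simple_pos hi) b ha, ?_, ec⟩
  rw [← e']
  show xr Q α b * (u * h * Q.sys.rep w * (xr Q α b * a)) * (xr Q α b)⁻¹
    = xr Q α b * u * (h * Q.sys.rep w) * (xr Q α b * a * (xr Q α b)⁻¹)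
  group

/-- A root `t` of `c t² + c b t = 1` yields a conjugate in a shorter cell. -/
theorem descend_shape {w : Q.X.M.Group} {i : ℕ} (hi : i < Q.X.n)
    (heq : (Q.X.good.hom w ⟨D.simple i, (Q.X.good.simple_spec hi).2.1⟩).val = D.neg (D.simple i))
    {u a h : ↥(D.group F)} (hu : u ∈ rest Q (D.simple i)) (ha : a ∈ rest Q (D.simple i))
    (hh : h ∈ Q.sys.H) {b c t : F}
    (hn : ∀ t, (h * Q.sys.rep w) * xr Q (D.simple i) t * (h * Q.sys.rep w)⁻¹ =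
      xr Q (D.neg (D.simple i)) (c * t))
    (ht : c * t ^ 2 + c * b * t = 1) :
    ∃ g w', Q.X.good.inv w' < Q.X.good.inv w ∧
      g * (u * xr Q (D.simple i) b * (h * Q.sys.rep w) * a) * g⁻¹ ∈ Q.sys.cell w' := by
  have hs := Q.X.good.simple_spec hi
  have hir : i < D.rank := Q.rank_eq.symm ▸ hi
  set α := D.simple i
  set m := h * Q.sys.rep w with hm
  have hnl : D.neg α < D.nroots := Q.K.neg_lt hs.2.1
  have hτ : t + b ≠ 0 := by
    intro h0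
    have : c * t * (t + b) = 1 := by rw [← ht]; ring
    rw [h0, mul_zero] at this
    exact zero_ne_one this
  have hσ : -(c * t) = -(t + b)⁻¹ := by
    have : c * t * (t + b) = 1 := by rw [← ht]; ring
    rw [eq_inv_of_mul_eq_one_left this]
  -- the representative on the negative root
  have hα : (Q.X.good.hom w ⟨D.neg α, hnl⟩).val = α := by
    have e : (⟨D.neg α, hnl⟩ : Fin D.nroots) = ⟨D.nroots - 1 - α, by have := hs.2.1; omega⟩ :=
      Fin.ext (Q.K.neg_eq α hs.2.1)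
    rw [e, Q.X.good.hom_neg w ⟨α, hs.2.1⟩]
    show D.nroots - 1 - (Q.X.good.hom w ⟨α, hs.2.1⟩).val = α
    rw [heq, Q.K.neg_eq α hs.2.1]
    have := hs.2.1
    omega
  obtain ⟨c2, hc2, ec2⟩ := (moves_rep w hnl).comp (moves_H hh (Fin.isLt _))
  rw [hα] at ec2
  set s' := c2⁻¹ * -(t + b) with hs'
  have e1 : xr Q α (-(t + b)) * m = m * xr Q (D.neg α) s' := by
    have := ec2 s'
    rw [hs', mul_inv_cancel_left₀ hc2] at this
    rw [← this, hm, hs']; group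
  have e2 : xr Q α t * (u * xr Q α b * m * a) * (xr Q α t)⁻¹
      = (xr Q α t * u * (xr Q α t)⁻¹) * (xr Q α (t + b) * xr Q (D.neg α) (-(t + b)⁻¹)) * m *
        (xr Q α t * a * (xr Q α t)⁻¹) := by
    rw [← hσ, xr_add hs.2.1, xr_neg hnl, ← hn t]
    group
  have e3 : xr Q α (t + b) * xr Q (D.neg α) (-(t + b)⁻¹)
      = Twist.nUG Q α (t + b) * xr Q α (-(t + b)) := by
    rw [Twist.nUG_eq, xr_neg hs.2.1]
    group
  have e4 : Twist.nUG Q α (t + b) = Twist.hUG Q α (t + b) * Q.sys.ns i :=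
    Subtype.ext (RootSys.nU_eq_hU_nS Q.K _)
  set ns := Q.sys.ns i with hns
  set U1 := xr Q α t * u * (xr Q α t)⁻¹
  set A1 := xr Q α t * a * (xr Q α t)⁻¹
  obtain ⟨k, hk, ek⟩ := rep_mul_ns (Q := Q) hi w
  rw [← hns] at ek
  have hk1 : ns * Twist.hUG Q α (t + b) * ns⁻¹ * (ns * ns) * h *
      (Q.sys.rep w * (ns * ns)⁻¹ * (Q.sys.rep w)⁻¹) * k ∈ Q.sys.H :=
    mul_mem (mul_mem (mul_mem (mul_mem (Q.sys.n_conj_H i hi _ (Twist.hUG_mem hs.2.1 hτ))
      (Q.sys.sq i hi)) hh) (Q.sys.rep_conj_H w (inv_mem (Q.sys.sq i hi)))) hk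
  obtain ⟨d, ed⟩ : ∃ d, ns * xr Q (D.neg α) s' * ns⁻¹ = xr Q α d := by
    obtain ⟨c3, -, e⟩ := moves_ns (Q := Q) hi hnl
    refine ⟨c3 * s', ?_⟩
    rw [e s', show Q.K.w i (D.neg α) = α by
      rw [← w_simple_eq hi, (Q.K.w_lt i hir α hs.2.1).2]]
  refine ⟨ns * xr Q α t, w * Weyl.gen Q.X.M i, ?_, ?_⟩
  · have := Q.X.good.inv_mul_gen_neg hi (g := w) (by
      rw [heq, Q.K.neg_eq α hs.2.1]
      have h1 : D.nroots / 2 ≤ α := hs.1
      have h2 : α < D.nroots := hs.2.1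
      have := Q.X.good.even
      omega)
    omega
  · have e5 : ns * xr Q α t * (u * xr Q α b * m * a) * (ns * xr Q α t)⁻¹
        = (ns * U1 * ns⁻¹) * ((ns * Twist.hUG Q α (t + b) * ns⁻¹ * (ns * ns) * h *
          (Q.sys.rep w * (ns * ns)⁻¹ * (Q.sys.rep w)⁻¹) * k) *
          Q.sys.rep (w * Weyl.gen Q.X.M i)) * (xr Q α d * (ns * A1 * ns⁻¹)) := by
      rw [show ns * xr Q α t * (u * xr Q α b * m * a) * (ns * xr Q α t)⁻¹
          = ns * (xr Q α t * (u * xr Q α b * m * a) * (xr Q α t)⁻¹) * ns⁻¹ by group, e2, e3, e4,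
        ← ed,
        show ∀ X : ↥(D.group F), X * k * Q.sys.rep (w * Weyl.gen Q.X.M i)
          = X * (k * Q.sys.rep (w * Weyl.gen Q.X.M i)) from fun X => mul_assoc _ _ _, ← ek,
        show U1 * (Twist.hUG Q α (t + b) * ns * xr Q α (-(t + b))) * m
          = U1 * (Twist.hUG Q α (t + b) * ns * (xr Q α (-(t + b)) * m)) by group, e1, hm]
      group
    rw [e5]
    exact Q.sys.cell_right_U (mul_mem (Q.sys.x_mem_U hs.2.1 hs.1 d)
        (ns_conj_rest hi (rest_conj (simple_pos hi) t ha)).1)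
      (Q.sys.cell_left_U (ns_conj_rest hi (rest_conj (simple_pos hi) t hu)).1
        (Q.sys.cell_left_H hk1 (Q.sys.rep_mem_cell _)))

end Cfsg.Agent.H56.D4Sec
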