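import Cfsg.Agent.H56.D4Sec.Basic

/-!
For a prime `r` prime to the order of the Weyl group, a subgroup containing the diagonal subgroup
contains a diagonal Sylow `r`-subgroup.
-/
set_option autoImplicit false

namespace Cfsg.Agent.H56.D4Sec

open Cfsg.Lie Cfsg.Agent.H37 Cfsg.Agent.H37.RootSys
open scoped Pointwise

variable {D : ChevalleyDatum} {F : Type*} [Field F] {Q : Chev.Data D F}

variable (Q) in
/-- Every root is moved by a diagonal element killed by `r`. -/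
def Separates (r : ℕ) : Prop :=
  ∀ s, s < D.nroots → ∃ a ∈ Q.sys.H, a ^ r = 1 ∧ ∃ v, Val Q a s v ∧ v ≠ 1

/-- Only the identity of `U` commutes with all diagonal elements killed by `r`. -/
theorem eq_one_of_commute {r : ℕ} (hA : Separates Q r) {u : ↥(D.group F)} (hu : u ∈ Q.sys.U)
    (hc : ∀ a ∈ Q.sys.H, a ^ r = 1 → a * u * a⁻¹ = u) : u = 1 := by
  have hS : Q.sys.toUnip.Closed (posSet D) := Q.sys.P_eq ▸ Q.sys.toUnip.closed_P
  suffices ∀ m k, D.nroots < k + m → ∀ g ∈ XS Q.sys.x {s | s ∈ posSet D ∧ k ≤ s},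
      (∀ a ∈ Q.sys.H, a ^ r = 1 → a * g * a⁻¹ = g) → g = 1 by
    exact this (D.nroots + 1) 0 (by omega) u
      (XS_mono (fun s hs => show s ∈ posSet D ∧ 0 ≤ s from ⟨Finset.mem_coe.1 hs, Nat.zero_le s⟩) hu) hc
  intro m
  induction m with
  | zero =>
      intro k hk g hg _
      have : {s | s ∈ posSet D ∧ k ≤ s} = ∅ := Set.eq_empty_iff_forall_notMem.2 fun s hs => by
        have := (mem_posSet.1 hs.1).1
        have := hs.2
        omega
      rw [this, XS_empty, Subgroup.mem_bot] at hg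
      exact hg
  | succ m ih =>
      intro k hk g hg hgc
      by_cases hkS : k ∈ posSet D
      · obtain ⟨t, p, hp, rfl⟩ := Q.sys.toUnip.exists_head hS hkS hg
        obtain ⟨a, ha, har, v, hv, hv1⟩ := hA k (mem_posSet.1 hkS).1
        have hp' : a * p * a⁻¹ ∈ XS Q.sys.x {s | s ∈ posSet D ∧ k < s} :=
          conj_mem_XS (fun s hs t => by
            obtain ⟨t', e⟩ := Q.sys.h_conj a ha s (mem_posSet.1 hs.1).1 t
            rw [e]
            exact x_mem_XS (x := Q.sys.x) hs t') hp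
        have e : Q.sys.x k (v * t) * (a * p * a⁻¹) = Q.sys.x k t * p := by
          rw [← hgc a ha har, show Q.sys.x k (v * t) = a * Q.sys.x k t * a⁻¹ from (hv t).symm]
          group
        obtain ⟨e1, -⟩ := Q.sys.toUnip.head_unique hS hkS hp' hp e
        have ht : t = 0 := by
          by_contra h0
          exact hv1 (mul_right_cancel₀ h0 (by rw [e1, one_mul]))
        subst ht
        rw [show Q.sys.x k 0 = 1 from Q.sys.x_zero' (mem_posSet.1 hkS).1, one_mul] at hgc ⊢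
        exact ih (k + 1) (by omega) p (XS_mono (fun s hs => show s ∈ posSet D ∧ k + 1 ≤ s from ⟨hs.1, hs.2⟩) hp) hgc
      · rw [Unip.tail_of_not_mem hkS] at hg
        exact ih (k + 1) (by omega) g (XS_mono (fun s hs => show s ∈ posSet D ∧ k + 1 ≤ s from ⟨hs.1, hs.2⟩) hg) hgc

/-- The normaliser of the diagonal elements killed by `r` is monomial. -/
theorem mem_N_of_normalizes {r : ℕ} (hA : Separates Q r) {g : ↥(D.group F)}
    (hg : ∀ a ∈ Q.sys.H, a ^ r = 1 → g⁻¹ * a * g ∈ Q.sys.H) : g ∈ Q.amb.N := by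
  obtain ⟨u, hu, h, hh, w, v, hv, rfl⟩ := Q.amb.exists_eq g
  have key : ∀ a ∈ Q.sys.H, a ^ r = 1 → ∃ a' ∈ Q.sys.H, a' ^ r = 1 ∧
      a * u * a⁻¹ = u ∧ a' * v * a'⁻¹ = v ∧ Q.sys.rep w * a' * (Q.sys.rep w)⁻¹ = a := by
    intro a ha har
    set a' := (u * h * Q.sys.rep w * v)⁻¹ * a * (u * h * Q.sys.rep w * v) with ha'
    have h1 : a' ∈ Q.sys.H := hg a ha har
    have h2 : a' ^ r = 1 := by
      rw [ha', show (u * h * Q.sys.rep w * v)⁻¹ * a * (u * h * Q.sys.rep w * v)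
        = (u * h * Q.sys.rep w * v)⁻¹ * a * ((u * h * Q.sys.rep w * v)⁻¹)⁻¹ by rw [inv_inv],
        conj_pow, har]
      group
    have hv' : a' * v * a'⁻¹ ∈ Q.amb.Uw w :=
      conj_mem_XS (fun s hs t => by
        obtain ⟨t', e⟩ := Q.sys.h_conj a' h1 s (Sys.mem_flip.1 hs).1 t
        rw [e]
        exact x_mem_XS (x := Q.sys.x) hs t') hv
    have e : (a * u * a⁻¹) * (a * h * (Q.sys.rep w * a'⁻¹ * (Q.sys.rep w)⁻¹)) * Q.sys.rep w *
        (a' * v * a'⁻¹) = u * h * Q.sys.rep w * v := by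
      rw [ha']; group
    obtain ⟨-, e1, e2, e3⟩ := Q.amb.unique (Q.sys.H_conj_U ha hu) hu
      (mul_mem (mul_mem ha hh) (Q.sys.rep_conj_H w (inv_mem h1))) hh hv' hv e
    refine ⟨a', h1, h2, e1, e3, ?_⟩
    obtain ⟨c, hc⟩ := exists_tG hh
    obtain ⟨d, hd⟩ := exists_tG ha
    have hah : a * h = h * a := by rw [hc, hd, ← map_mul, ← map_mul, mul_comm]
    rw [show Q.sys.rep w * a'⁻¹ * (Q.sys.rep w)⁻¹ = (Q.sys.rep w * a' * (Q.sys.rep w)⁻¹)⁻¹ by group,
      hah, mul_assoc] at e2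
    have e4 := mul_eq_left.1 e2
    exact (mul_inv_eq_one.1 e4).symm
  have hu1 : u = 1 := eq_one_of_commute hA hu fun a ha har => (key a ha har).choose_spec.2.2.1
  have hv1 : v = 1 := eq_one_of_commute hA (Q.amb.Uw_le w hv) fun b hb hbr => by
    obtain ⟨a', -, -, -, e3, e4⟩ := key (Q.sys.rep w * b * (Q.sys.rep w)⁻¹)
      (Q.sys.rep_conj_H w hb) (by rw [conj_pow, hbr]; group)
    obtain rfl : a' = b := mul_left_cancel (mul_right_cancel e4)
    exact e3
  exact ⟨h, hh, w, by subst hu1 hv1; show 1 * h * Q.sys.rep w * 1 = h * Q.sys.rep w; group⟩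

theorem weyl_finite (Q : Chev.Data D F) : Finite Q.X.M.Group :=
  Finite.of_injective _ Q.X.good.hom_injective

/-- The index of the diagonal subgroup is prime to `r`. -/
theorem not_dvd_relIndex [Finite F] {r : ℕ} [hr : Fact r.Prime] (hA : Separates Q r)
    (hW : ¬ r ∣ Nat.card Q.X.M.Group) {C : Subgroup ↥(D.group F)} (hC : Q.sys.H ≤ C) :
    ¬ r ∣ Q.sys.H.relIndex C := by
  classical
  have := weyl_finite Q
  -- the monomial subgroup
  have hN : Q.sys.H.relIndex (Q.amb.N) = Nat.card Q.X.M.Group := by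
    rw [Subgroup.relIndex, Subgroup.index]
    refine (Nat.card_eq_of_bijective (fun w => QuotientGroup.mk
      (⟨Q.sys.rep w, Q.amb.n_mem_N w⟩ : ↥Q.amb.N)) ⟨?_, ?_⟩).symm
    · intro a b e
      have e' := QuotientGroup.eq.1 e
      rw [Subgroup.mem_subgroupOf] at e'
      exact Q.amb.n_inj_B (Q.amb.H_le_B e')
    · intro x
      obtain ⟨⟨g, h, hh, w, rfl⟩, rfl⟩ := QuotientGroup.mk_surjective x
      refine ⟨w, QuotientGroup.eq.2 ?_⟩
      rw [Subgroup.mem_subgroupOf]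
      obtain ⟨k, hk, ek⟩ := Q.sys.rep_inv w
      show (Q.sys.rep w)⁻¹ * (h * Q.sys.rep w) ∈ Q.sys.H
      rw [ek, show k * Q.sys.rep w⁻¹ * (h * Q.sys.rep w)
        = k * (Q.sys.rep w⁻¹ * h * (Q.sys.rep w⁻¹)⁻¹) * (Q.sys.rep w⁻¹ * Q.sys.rep w) by group]
      refine mul_mem (mul_mem hk (Q.sys.rep_conj_H _ hh)) ?_
      obtain ⟨l, hl, el⟩ := Q.sys.rep_mul w⁻¹ w
      rw [el, inv_mul_cancel, Q.sys.rep_one, mul_one]
      exact hl
  -- diagonal elements killed by `r`, acting on the cosets in `C`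
  let A : Subgroup ↥C :=
    { carrier := {a | (a : ↥(D.group F)) ∈ Q.sys.H ∧ a ^ r = 1}
      one_mem' := ⟨one_mem _, one_pow _⟩
      mul_mem' := fun {a b} ha hb => ⟨mul_mem ha.1 hb.1, by
        have hcomm : Commute a b := by
          obtain ⟨c, hc⟩ := exists_tG ha.1
          obtain ⟨d, hd⟩ := exists_tG hb.1
          refine Subtype.ext ?_
          rw [Subgroup.coe_mul, Subgroup.coe_mul, hc, hd, ← map_mul, ← map_mul, mul_comm]
        rw [hcomm.mul_pow, ha.2, hb.2, mul_one]⟩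
      inv_mem' := fun {a} ha => ⟨inv_mem ha.1, by rw [inv_pow, ha.2, inv_one]⟩ }
  have hAp : IsPGroup r ↥A := fun a => ⟨1, Subtype.ext (by
    rw [pow_one, SubmonoidClass.coe_pow]; exact a.2.2)⟩
  have hmod := hAp.card_modEq_card_fixedPoints (↥C ⧸ Q.sys.H.subgroupOf C)
  set M := Q.amb.N.subgroupOf C
  have hHM : Q.sys.H.subgroupOf C ≤ M := fun g hg => Q.amb.H_le_N hg
  have hfix : ∀ g : ↥C, (QuotientGroup.mk g : ↥C ⧸ Q.sys.H.subgroupOf C) ∈
      MulAction.fixedPoints ↥A (↥C ⧸ Q.sys.H.subgroupOf C) ↔ g ∈ M := by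
    intro g
    rw [MulAction.mem_fixedPoints]
    have hsm : ∀ a : ↥A, a • (QuotientGroup.mk g : ↥C ⧸ Q.sys.H.subgroupOf C)
        = QuotientGroup.mk ((a : ↥C) * g) := fun a => rfl
    simp only [hsm, QuotientGroup.eq, Subgroup.mem_subgroupOf, mul_inv_rev]
    constructor
    · intro h
      refine mem_N_of_normalizes hA fun a ha har => ?_
      have := h ⟨⟨a, hC ha⟩, ha, Subtype.ext har⟩
      simp only [Subgroup.coe_mul, InvMemClass.coe_inv] at this
      have := inv_mem this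
      simpa [mul_assoc] using this
    · rintro ⟨h, hh, w, e⟩ a
      simp only [Subgroup.coe_mul, InvMemClass.coe_inv]
      have e' : (g : ↥(D.group F)) = h * Q.sys.rep w := e
      obtain ⟨k, hk, ek⟩ := Q.sys.rep_inv w
      rw [e', show (h * Q.sys.rep w)⁻¹ * ((a : ↥C) : ↥(D.group F))⁻¹ * (h * Q.sys.rep w)
        = (Q.sys.rep w)⁻¹ * (h⁻¹ * ((a : ↥C) : ↥(D.group F))⁻¹ * h) * ((Q.sys.rep w)⁻¹)⁻¹ by
        group, ek, show ∀ X : ↥(D.group F), k * Q.sys.rep w⁻¹ * X * (k * Q.sys.rep w⁻¹)⁻¹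
        = k * (Q.sys.rep w⁻¹ * X * (Q.sys.rep w⁻¹)⁻¹) * k⁻¹ from fun X => by group]
      exact mul_mem (mul_mem hk (Q.sys.rep_conj_H _ (mul_mem (mul_mem (inv_mem hh)
        (inv_mem a.2.1)) hh))) (inv_mem hk)
  have hcard : Nat.card (MulAction.fixedPoints ↥A (↥C ⧸ Q.sys.H.subgroupOf C))
      = (Q.sys.H.subgroupOf C).relIndex M := by
    rw [Subgroup.relIndex, Subgroup.index]
    refine (Nat.card_eq_of_bijective (fun x => Quotient.liftOn' x
      (fun g : ↥M => (⟨QuotientGroup.mk (g : ↥C), (hfix g).2 g.2⟩ :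
        MulAction.fixedPoints ↥A (↥C ⧸ Q.sys.H.subgroupOf C))) ?_) ⟨?_, ?_⟩).symm
    · intro a b e
      rw [QuotientGroup.leftRel_apply] at e
      exact Subtype.ext (QuotientGroup.eq.2 e)
    · intro x y
      induction x using QuotientGroup.induction_on with | _ a => ?_
      induction y using QuotientGroup.induction_on with | _ b => ?_
      intro e
      exact QuotientGroup.eq.2 (QuotientGroup.eq (s := Q.sys.H.subgroupOf C).1
        (congrArg Subtype.val e))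
    · rintro ⟨x, hx⟩
      induction x using QuotientGroup.induction_on with | _ g => ?_
      exact ⟨QuotientGroup.mk ⟨g, (hfix g).1 hx⟩, rfl⟩
  have hdiv : (Q.sys.H.subgroupOf C).relIndex M ∣ Nat.card Q.X.M.Group := by
    rw [← hN]
    have e1 : (Q.sys.H.subgroupOf C).relIndex M = Q.sys.H.relIndex (Q.amb.N ⊓ C) := by
      show (Q.sys.H.subgroupOf C).relIndex (Q.amb.N.subgroupOf C) = _
      rw [← Subgroup.inf_subgroupOf_right Q.amb.N C, Subgroup.relIndex_subgroupOf inf_le_right]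
    rw [e1, ← Subgroup.relIndex_mul_relIndex Q.sys.H (Q.amb.N ⊓ C) Q.amb.N
      (le_inf Q.amb.H_le_N hC) inf_le_left]
    exact dvd_mul_right _ _
  intro hdvd
  refine hW (dvd_trans ?_ hdiv)
  rw [← hcard]
  exact (Nat.modEq_zero_iff_dvd.1 (hmod.symm.trans (Nat.modEq_zero_iff_dvd.2 hdvd)))

/-- An element of `r`-power order of a subgroup containing the diagonal subgroup is conjugate in it
to a diagonal element. -/
theorem exists_conj_H [Finite F] {r : ℕ} [hr : Fact r.Prime] (hA : Separates Q r)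
    (hW : ¬ r ∣ Nat.card Q.X.M.Group) {C : Subgroup ↥(D.group F)} (hC : Q.sys.H ≤ C)
    {P : Subgroup ↥(D.group F)} (hP : IsPGroup r ↥P) (hPC : P ≤ C) :
    ∃ g ∈ C, ∀ x ∈ P, g * x * g⁻¹ ∈ Q.sys.H := by
  have hrel := not_dvd_relIndex hA hW hC
  obtain ⟨S₁⟩ : Nonempty (Sylow r ↥(Q.sys.H.subgroupOf C)) := inferInstance
  have hS0 : Nat.card ((S₁ : Subgroup _).map (Q.sys.H.subgroupOf C).subtype)
      = r ^ (Nat.card ↥C).factorization r := by
    rw [Subgroup.card_subtype, S₁.card_eq_multiplicity]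
    congr 1
    have hrel' : ¬ r ∣ (Q.sys.H.subgroupOf C).index := hrel
    rw [← Subgroup.card_mul_index (Q.sys.H.subgroupOf C), Nat.factorization_mul
      Nat.card_pos.ne' Subgroup.index_ne_zero_of_finite, Finsupp.add_apply,
      Nat.factorization_eq_zero_of_not_dvd hrel', add_zero]
  let S₀ : Sylow r ↥C := Sylow.ofCard _ hS0
  obtain ⟨S₂, hS₂⟩ := (hP.comap_subtype (K := C)).exists_le_sylow
  obtain ⟨g, hg⟩ := MulAction.exists_smul_eq ↥C S₂ S₀
  refine ⟨g, g.2, fun x hx => ?_⟩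
  have h1 : g * (⟨x, hPC hx⟩ : ↥C) * g⁻¹ ∈ (g • S₂ : Sylow r ↥C) :=
    Subgroup.smul_mem_pointwise_smul _ (MulAut.conj g) _ (hS₂ (show (⟨x, hPC hx⟩ : ↥C) ∈
      P.comap C.subtype from hx))
  rw [hg] at h1
  obtain ⟨y, -, hy⟩ := h1
  have h2 := y.2
  rw [Subgroup.mem_subgroupOf] at h2
  rw [show (y : ↥C) = g * ⟨x, hPC hx⟩ * g⁻¹ from hy] at h2
  exact h2

end Cfsg.Agent.H56.D4Sec
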