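import Cfsg.Agent.H56.D4Sec.Twisting
import Cfsg.Agent.H56.D4Sec.Sylow
import Cfsg.Agent.H37.Weyl.Summary
import Mathlib.FieldTheory.Finite.Extension

/-!
Consequences for elements of order two, five and seven of `³D₄(q)`.
-/
set_option autoImplicit false
set_option maxRecDepth 100000

namespace Cfsg.Agent.H56.D4Sec

open Cfsg.Lie Cfsg.Agent.H37 Cfsg.Agent.H37.RootSys
open Cfsg.Agent.H37.Twist.D4 (endo)

universe u

variable {K : Type u} [Field K] [Finite K] {p a : ℕ} [Fact p.Prime] [CharP K p] {φ : K →+* K}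

omit [Fact p.Prime] [CharP K p] in
theorem card_W : Nat.card (QD K).X.M.Group = 192 := Weyl.cardD4

theorem cartan_ne_five : ∀ s : Fin chevD4.nroots, ∃ m : Fin chevD4.rank,
    ((chevD4.cartan m.val s.val : ℤ) : ZMod 5) ≠ 0 := by decide +kernel

theorem cartan_ne_seven : ∀ s : Fin chevD4.nroots, ∃ m : Fin chevD4.rank,
    ((chevD4.cartan m.val s.val : ℤ) : ZMod 7) ≠ 0 := by decide +kernel

omit [Finite K] [Fact p.Prime] [CharP K p] in
theorem separates {L : Type*} [Field L] [Finite L] {r : ℕ} [hr : Fact r.Prime]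
    (hr57 : r = 5 ∨ r = 7) (hd : r ∣ Nat.card L - 1) : Separates (QD L) r := by
  obtain ⟨j, hj⟩ := exists_rt L r hd
  intro s hs
  obtain ⟨m, hm⟩ : ∃ m : Fin chevD4.rank, ((chevD4.cartan m.val s : ℤ) : ZMod r) ≠ 0 := by
    rcases hr57 with rfl | rfl
    · exact cartan_ne_five ⟨s, hs⟩
    · exact cartan_ne_seven ⟨s, hs⟩
  refine ⟨Twist.tG (QD L) (Pi.mulSingle m (rt j 1)), Twist.tG_mem _ _, ?_, _, val_tG _ hs, ?_⟩
  · rw [← map_pow, ← Pi.mulSingle_pow, rt, ← map_pow, ← ofAdd_nsmul, nsmul_one,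
      ZMod.natCast_self, ofAdd_zero, map_one, Pi.mulSingle_one, map_one]
  · intro he
    have e : Twist.chT (Pi.mulSingle m (rt j 1)) s = rt j ((chevD4.cartan m.val s : ℤ) : ZMod r) := by
      rw [Twist.chT, Finset.prod_eq_single m
        (fun b _ hb => by rw [Pi.mulSingle_eq_of_ne hb, one_zpow]) (by simp),
        Pi.mulSingle_eq_same, rt, rt, ← map_zpow, ← ofAdd_zsmul, zsmul_one]
    rw [e] at he
    exact hm (Multiplicative.ofAdd.injective
      ((hj ((Units.ext he : rt j _ = 1).trans (map_one j).symm)).trans ofAdd_zero.symm))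

omit [Fact p.Prime] [CharP K p] in
/-- An `r`-subgroup of a subgroup containing the diagonal subgroup becomes diagonal. -/
theorem conj_diag {L : Type*} [Field L] [Finite L] {r : ℕ} [hr : Fact r.Prime]
    (hr57 : r = 5 ∨ r = 7) (hd : r ∣ Nat.card L - 1) {C : Subgroup ↥(chevD4.group L)}
    (hC : (QD L).sys.H ≤ C) {P : Subgroup ↥(chevD4.group L)} (hP : IsPGroup r ↥P) (hPC : P ≤ C) :
    ∃ g ∈ C, ∀ x ∈ P, g * x * g⁻¹ ∈ (QD L).sys.H := by
  refine exists_conj_H (separates hr57 hd) ?_ hC hP hPC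
  rw [show Nat.card (QD L).X.M.Group = 192 from Weyl.cardD4]
  rcases hr57 with rfl | rfl <;> norm_num

theorem exists_ext (K : Type*) [Field K] [Finite K] (p : ℕ) [Fact p.Prime] [CharP K p] (r : ℕ)
    [hr : Fact r.Prime] (hrp : r ≠ p) :
    ∃ (L : Type) (_ : Field L) (_ : Finite L) (_ : CharP L p) (_ : K →+* L),
      r ∣ Nat.card L - 1 := by
  have : NeZero (r - 1) := ⟨by have := hr.out.two_le; omega⟩
  refine ⟨FiniteField.Extension K p (r - 1), inferInstance, inferInstance,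
    charP_of_injective_ringHom (algebraMap K (FiniteField.Extension K p (r - 1))).injective p,
    algebraMap K (FiniteField.Extension K p (r - 1)), ?_⟩
  rw [FiniteField.natCard_extension]
  have hne : (Nat.card K : ZMod r) ≠ 0 := by
    intro h
    rw [ZMod.natCast_eq_zero_iff] at h
    have := Fintype.ofFinite K
    obtain ⟨n, -, hn⟩ := FiniteField.card K p
    rw [Nat.card_eq_fintype_card, hn] at h
    exact hrp ((Nat.prime_dvd_prime_iff_eq hr.out Fact.out).1 (hr.out.dvd_of_dvd_pow h))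
  rw [← ZMod.natCast_eq_zero_iff, Nat.cast_sub (Nat.one_le_pow _ _ Nat.card_pos), Nat.cast_pow,
    ZMod.pow_card_sub_one_eq_one hne, Nat.cast_one, sub_self]

/-- Subgroups of five- or seven-power order are abelian. -/
theorem prime_comm {r : ℕ} [Fact r.Prime] (hr57 : r = 5 ∨ r = 7) (hrp : r ≠ p)
    {P : Subgroup ↥(chevD4.group K)} (hP : IsPGroup r ↥P)
    {x y : ↥(chevD4.group K)} (hx : x ∈ P) (hy : y ∈ P) : x * y = y * x := by
  obtain ⟨L, _, _, _, f, hd⟩ := exists_ext K p r hrp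
  obtain ⟨g, -, hg⟩ := conj_diag (C := ⊤) hr57 hd le_top (hP.map (mapD f)) le_top
  refine mapG_injective (Q := QD K) f ?_
  show mapD f (x * y) = mapD f (y * x)
  rw [map_mul, map_mul]
  refine (MulAut.conj g).injective ?_
  rw [map_mul, map_mul]
  exact H_comm (hg _ ⟨x, hx, rfl⟩) (hg _ ⟨y, hy, rfl⟩)

/-- A fixed element of order five is not conjugate to its square by a fixed element. -/
theorem no_five (hφ : ∀ t, φ t = t ^ p ^ a) (hp5 : p ≠ 5) {z y : ↥(chevD4.group K)}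
    (hzf : (endo φ).σ z = z) (hz5 : z ^ 5 = 1) (hz1 : z ≠ 1) (hy : y * z * y⁻¹ = z ^ 2) :
    False := by
  have : Fact (Nat.Prime 5) := ⟨by norm_num⟩
  obtain ⟨L, _, _, _, f, hd⟩ := exists_ext K p 5 hp5.symm
  obtain ⟨φ', hφ'⟩ := frob_pow L p a
  have hP : IsPGroup 5 ↥(Subgroup.zpowers (mapD f z)) := by
    intro w
    refine ⟨1, Subtype.ext ?_⟩
    obtain ⟨k, hk⟩ := Subgroup.mem_zpowers_iff.1 w.2
    rw [SubmonoidClass.coe_pow, ← hk, ← zpow_natCast, ← zpow_mul, mul_comm, zpow_mul,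
      zpow_natCast, pow_one, ← map_pow, hz5, map_one, one_zpow, OneMemClass.coe_one]
  obtain ⟨g, -, hg⟩ := conj_diag (C := ⊤) (Or.inl rfl) hd le_top hP le_top
  set h := g * mapD f z * g⁻¹ with hh
  have hH : h ∈ (QD L).sys.H := hg _ (Subgroup.mem_zpowers _)
  have h5 : h ^ 5 = 1 := by rw [hh, conj_pow, ← map_pow, hz5, map_one]; group
  have h1 : h ≠ 1 := fun e => hz1 (mapG_injective (Q := QD K) f (by
    show mapD f z = mapD f 1
    rw [map_one]
    exact conj_eq_one_iff.1 e))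
  obtain ⟨j, hj⟩ := exists_rt L 5 hd
  obtain ⟨u, hu⟩ := exists_code hj hH h5
  have e2 : id5 (fun i => 2 * u i) = id5 u :=
    class_eq id5_refl hj hH (pow_mem hH 2) hu (by simpa using hu.pow 2)
      ⟨g * mapD f y * g⁻¹, by
        rw [hh, conj_pow, ← map_pow, ← hy, map_mul, map_mul, map_inv]; group⟩
  have hσ : (endo φ').σ h
      = (endo φ').σ g * mapD f z * ((endo φ').σ g)⁻¹ := by
    rw [hh, map_mul, map_mul, map_inv, ← mapD_endo hφ hφ' f, hzf]
  refine id5_twist (code_ne_zero hH h1 hu) (q := ((p ^ a : ℕ) : ZMod 5)) ?_ e2 ?_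
  · rw [Ne, ZMod.natCast_eq_zero_iff]
    exact fun h => hp5 ((Nat.prime_dvd_prime_iff_eq (by norm_num) Fact.out).1
      ((show Nat.Prime 5 by norm_num).dvd_of_dvd_pow h)).symm
  · exact class_eq id5_refl hj hH ((endo φ').σ_h hH) hu (hu.twist hφ')
      ⟨(endo φ').σ g * g⁻¹, by rw [hσ, hh]; group⟩

/-- The class of a diagonal conjugate of a fixed involution. -/
theorem inv_code (hφ : ∀ t, φ t = t ^ p ^ a) (hp2 : p ≠ 2) {z : ↥(chevD4.group K)}
    (hzf : (endo φ).σ z = z) (hz2 : z * z = 1) (hz1 : z ≠ 1)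
    {L : Type*} [Field L] [Finite L] (f : K →+* L) (g : ↥(chevD4.group L))
    (hH : g * mapD f z * g⁻¹ ∈ (QD L).sys.H) :
    ∃ j : Multiplicative (ZMod 2) →* Lˣ, Function.Injective j ∧
      ∃ c, Code j (g * mapD f z * g⁻¹) (zc c) := by
  haveI : CharP L p := charP_of_injective_ringHom f.injective p
  haveI : Fact (Nat.Prime 2) := ⟨Nat.prime_two⟩
  obtain ⟨φ', hφ'⟩ := frob_pow L p a
  have hodd : 2 ∣ Nat.card L - 1 := by
    have := Fintype.ofFinite L
    obtain ⟨n, -, hn⟩ := FiniteField.card L p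
    rw [Nat.card_eq_fintype_card, hn]
    exact (((Fact.out : p.Prime).odd_of_ne_two hp2).pow.tsub_odd odd_one).two_dvd
  obtain ⟨j, hj⟩ := exists_rt L 2 hodd
  refine ⟨j, hj, ?_⟩
  set h := g * mapD f z * g⁻¹ with hh
  have hsq : h ^ 2 = 1 := by rw [hh, conj_pow, ← map_pow, pow_two, hz2, map_one]; group
  have h1 : h ≠ 1 := fun e => hz1 (mapG_injective (Q := QD K) f (by
    show mapD f z = mapD f 1
    rw [map_one]
    exact conj_eq_one_iff.1 e))
  obtain ⟨u, hu⟩ := exists_code hj hH hsq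
  have hσ : (endo φ').σ h
      = (endo φ').σ g * mapD f z * ((endo φ').σ g)⁻¹ := by
    rw [hh, map_mul, map_mul, map_inv, ← mapD_endo hφ hφ' f, hzf]
  have e := class_eq id2_refl hj hH ((endo φ').σ_h hH) hu (hu.twist hφ')
      ⟨(endo φ').σ g * g⁻¹, by rw [hσ, hh]; group⟩
  have hq : ((p ^ a : ℕ) : ZMod 2) = 1 :=
    (ZMod.natCast_eq_one_iff_odd).2 ((Fact.out : p.Prime).odd_of_ne_two hp2).pow
  rw [hq] at e
  obtain ⟨c, rfl⟩ := id2_twist (code_ne_zero hH h1 hu) e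
  exact ⟨c, hu⟩

omit [Finite K] [Fact p.Prime] [CharP K p] in
theorem two_ne_zero' [Fact p.Prime] [CharP K p] (hp2 : p ≠ 2) : (2 : K) ≠ 0 := by
  intro h
  have : ((2 : ℕ) : K) = 0 := by exact_mod_cast h
  exact hp2 ((Nat.prime_dvd_prime_iff_eq Fact.out Nat.prime_two).1
    ((CharP.cast_eq_zero_iff K p 2).1 this))

/-- Involutions fixed by the endomorphism have trace `-4`. -/
theorem inv_trace (hφ : ∀ t, φ t = t ^ p ^ a) (hp2 : p ≠ 2) {z : ↥(chevD4.group K)}
    (hzf : (endo φ).σ z = z) (hz2 : z * z = 1) (hz1 : z ≠ 1) :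
    Matrix.trace ((z : GL chevD4.Idx K) : Matrix chevD4.Idx chevD4.Idx K) = -4 := by
  obtain ⟨L, _, _, f, g, hH⟩ := toral K (two_ne_zero' hp2) z hz2
  obtain ⟨j, hj, c, hc⟩ := inv_code hφ hp2 hzf hz2 hz1 f g hH
  have h1 := trace_zc hj hH hc
  have h2 : Matrix.trace ((((g * mapD f z * g⁻¹ : ↥(chevD4.group L))) : GL chevD4.Idx L) :
      Matrix chevD4.Idx chevD4.Idx L)
      = f (Matrix.trace ((z : GL chevD4.Idx K) : Matrix chevD4.Idx chevD4.Idx K)) := by
    rw [Subgroup.coe_mul, Subgroup.coe_mul, Subgroup.coe_inv, Units.val_mul, Units.val_mul,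
      Matrix.trace_units_conj]
    exact ((AddMonoidHom.map_trace f.toAddMonoidHom _)).symm
  rw [h2] at h1
  apply f.injective
  rw [h1, map_neg, map_ofNat]

/-- No fixed involution is centralised by a Frobenius group of order `7 * 3`. -/
theorem no_seven (hφ : ∀ t, φ t = t ^ p ^ a) (hp2 : p ≠ 2) (hp7 : p ≠ 7)
    {z x y : ↥(chevD4.group K)}
    (hzf : (endo φ).σ z = z) (hz2 : z * z = 1) (hz1 : z ≠ 1) (hx7 : x ^ 7 = 1) (hx1 : x ≠ 1)
    (hxz : x * z = z * x) (hyz : y * z = z * y) (hyx : y * x * y⁻¹ = x ^ 2) : False := by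
  haveI : Fact (Nat.Prime 7) := ⟨by norm_num⟩
  obtain ⟨L₀, _, _, f₀, g₀, hH₀⟩ := toral K (two_ne_zero' hp2) z hz2
  haveI : CharP L₀ p := charP_of_injective_ringHom f₀.injective p
  obtain ⟨L, _, _, _, f₁, hd⟩ := exists_ext L₀ p 7 hp7.symm
  set f := f₁.comp f₀ with hf
  have hH : mapD f₁ g₀ * mapD f z * (mapD f₁ g₀)⁻¹ ∈ (QD L).sys.H := by
    have := mapD_H f₁ hH₀
    rwa [map_mul, map_mul, map_inv, ← mapD_comp] at this
  obtain ⟨j₂, hj₂, c, hc⟩ := inv_code hφ hp2 hzf hz2 hz1 f _ hH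
  obtain ⟨j₇, hj₇⟩ := exists_rt L 7 hd
  let ψ : ↥(chevD4.group K) →* ↥(chevD4.group L) :=
    (MulAut.conj (mapD f₁ g₀)).toMonoidHom.comp (mapD f)
  have hψz : ψ z ∈ (QD L).sys.H := hH
  have hψc : Code j₂ (ψ z) (zc c) := hc
  have hψ : Function.Injective ψ := fun v w e => mapG_injective (Q := QD K) f
    ((MulAut.conj (mapD f₁ g₀)).injective e)
  let C : Subgroup ↥(chevD4.group L) := Subgroup.centralizer {ψ z}
  have hC : (QD L).sys.H ≤ C := fun h hh => Subgroup.mem_centralizer_singleton_iff.2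
    (H_comm hh hψz)
  have hxC : Subgroup.zpowers (ψ x) ≤ C := Subgroup.zpowers_le.2
    (Subgroup.mem_centralizer_singleton_iff.2 (by rw [← map_mul, ← map_mul, hxz]))
  have hP : IsPGroup 7 ↥(Subgroup.zpowers (ψ x)) := by
    intro w
    refine ⟨1, Subtype.ext ?_⟩
    obtain ⟨k, hk⟩ := Subgroup.mem_zpowers_iff.1 w.2
    rw [SubmonoidClass.coe_pow, ← hk, ← zpow_natCast, ← zpow_mul, mul_comm, zpow_mul,
      zpow_natCast, pow_one, ← map_pow, hx7, map_one, one_zpow, OneMemClass.coe_one]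
  obtain ⟨g, hg, hgx⟩ := conj_diag (Or.inr rfl) hd hC hP hxC
  have hgz : g * ψ z = ψ z * g := Subgroup.mem_centralizer_singleton_iff.1 hg
  refine no_square hj₂ hj₇ (z := ψ z) (x := g * ψ x * g⁻¹) hψz
    (hgx _ (Subgroup.mem_zpowers _)) ?_ ?_ hψc (g := g * ψ y * g⁻¹) ?_ ?_
  · exact fun e => hx1 (hψ ((conj_eq_one_iff.1 e).trans (map_one ψ).symm))
  · rw [conj_pow, ← map_pow, hx7, map_one]; group
  · have h1 : ψ y * ψ z = ψ z * ψ y := by rw [← map_mul, ← map_mul, hyz]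
    have h2 : g⁻¹ * ψ z = ψ z * g⁻¹ := ((show Commute g (ψ z) from hgz).inv_left).eq
    calc g * ψ y * g⁻¹ * ψ z * (g * ψ y * g⁻¹)⁻¹
        = g * ψ y * (g⁻¹ * ψ z) * (g * (ψ y)⁻¹ * g⁻¹) := by group
      _ = g * (ψ y * ψ z) * (ψ y)⁻¹ * g⁻¹ := by rw [h2]; group
      _ = g * ψ z * g⁻¹ := by rw [h1]; group
      _ = ψ z := by rw [hgz]; group
  · rw [conj_pow, ← map_pow, ← hyx, map_mul, map_mul, map_inv]; group

end Cfsg.Agent.H56.D4Sec
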