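import Cfsg.Agent.H56.D4Sec.Alt
import Mathlib.GroupTheory.SchurZassenhaus
import Mathlib.GroupTheory.Sylow
import Mathlib.GroupTheory.Nilpotent

/-!
Lifting configurations of a quotient to the group.
-/
set_option autoImplicit false

namespace Cfsg.Agent.H56.D4Sec

/-- A subgroup mapping onto the preimage of an embedded group. -/
theorem exists_sub {G A B : Type*} [Group G] [Group A] [Group B] {π : G →* A}
    (hπ : Function.Surjective π) {ι : B →* A} (hι : Function.Injective ι) :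
    ∃ (M : Subgroup G) (ρ : ↥M →* B), Function.Surjective ρ := by
  refine ⟨ι.range.comap π, (MonoidHom.ofInjective hι).symm.toMonoidHom.comp
    (π.subgroupComap ι.range), ?_⟩
  exact (MonoidHom.ofInjective hι).symm.surjective.comp fun b => by
    obtain ⟨g, hg⟩ := hπ b.1
    exact ⟨⟨g, by rw [Subgroup.mem_comap, hg]; exact b.2⟩, Subtype.ext hg⟩

/-- A prime order element conjugate to its square lifts, for abelian Sylow subgroups. -/
theorem lift_pair {G A : Type*} [Group G] [Finite G] [Group A] {r : ℕ} [hr : Fact r.Prime]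
    (hab : ∀ P : Subgroup G, IsPGroup r ↥P → ∀ u ∈ P, ∀ v ∈ P, u * v = v * u)
    {π : G →* A} (hπ : Function.Surjective π) {xb yb : A} (hx : xb ^ r = 1) (hx1 : xb ≠ 1)
    (hy : yb * xb * yb⁻¹ = xb ^ 2) :
    ∃ x y : G, x ^ r = 1 ∧ x ≠ 1 ∧ y * x * y⁻¹ = x ^ 2 := by
  set M := (Subgroup.zpowers xb).comap π with hM
  obtain ⟨y0, hy0⟩ := hπ yb
  have hxy : ∀ a ∈ M, ∀ b ∈ M, π (a * b * a⁻¹) = π b := by
    intro a ha b hb
    obtain ⟨i, hi⟩ := Subgroup.mem_zpowers_iff.1 (show π a ∈ Subgroup.zpowers xb from ha)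
    obtain ⟨k, hk⟩ := Subgroup.mem_zpowers_iff.1 (show π b ∈ Subgroup.zpowers xb from hb)
    rw [map_mul, map_mul, map_inv, ← hi, ← hk]
    group
  have hnorm : ∀ b ∈ M, y0 * b * y0⁻¹ ∈ M ∧ π (y0 * b * y0⁻¹) = π b * π b := by
    intro b hb
    obtain ⟨k, hk⟩ := Subgroup.mem_zpowers_iff.1 (show π b ∈ Subgroup.zpowers xb from hb)
    have e : π (y0 * b * y0⁻¹) = π b * π b := by
      rw [map_mul, map_mul, map_inv, hy0, ← hk, ← conj_zpow, hy, ← zpow_natCast, ← zpow_mul,
        ← zpow_add]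
      congr 1
      push_cast
      ring
    exact ⟨Subgroup.mem_comap.2 (e ▸ mul_mem hb hb), e⟩
  -- an element of prime power order over `xb`
  obtain ⟨m0, hm0⟩ := hπ xb
  have hm0M : m0 ∈ M := Subgroup.mem_comap.2 (hm0 ▸ Subgroup.mem_zpowers xb)
  obtain ⟨k, s, hs, hord⟩ := Nat.exists_eq_pow_mul_and_not_dvd
    (orderOf_pos m0).ne' r hr.out.ne_one
  obtain ⟨t, -, ht⟩ := Nat.exists_mul_mod_eq_one_of_coprime
    ((hr.out.coprime_iff_not_dvd.2 hs).symm) hr.out.one_lt
  set x0 := m0 ^ (s * t) with hx0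
  have hx0r : x0 ^ r ^ k = 1 := by
    rw [hx0, ← pow_mul, show s * t * r ^ k = r ^ k * s * t by ring, ← hord, pow_mul,
      pow_orderOf_eq_one, one_pow]
  have hx0π : π x0 = xb := by
    rw [hx0, map_pow, hm0, pow_eq_pow_mod _ hx, ht, pow_one]
  have hZ : IsPGroup r ↥(Subgroup.zpowers (⟨x0, pow_mem hm0M _⟩ : ↥M)) := fun w => ⟨k, by
    obtain ⟨w, hw⟩ := w
    obtain ⟨i, rfl⟩ := Subgroup.mem_zpowers_iff.1 hw
    refine Subtype.ext (Subtype.ext ?_)
    simp only [SubmonoidClass.coe_pow, SubgroupClass.coe_zpow, OneMemClass.coe_one]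
    rw [← zpow_natCast, ← zpow_mul, mul_comm, zpow_mul, zpow_natCast, hx0r, one_zpow]⟩
  obtain ⟨S, hS⟩ := hZ.exists_le_sylow
  set P := (S : Subgroup ↥M).map M.subtype with hP
  have hPM : P ≤ M := Subgroup.map_subtype_le _
  have hPr : IsPGroup r ↥P := S.isPGroup'.map _
  have hx0P : x0 ∈ P := ⟨⟨x0, pow_mem hm0M _⟩, hS (Subgroup.mem_zpowers _), rfl⟩
  -- a normalising element
  let e : ↥M →* ↥M :=
    ((MulAut.conj y0).toMonoidHom.comp M.subtype).codRestrict M fun b => (hnorm b b.2).1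
  have hinj : Function.Injective e := fun a b h =>
    Subtype.ext ((MulAut.conj y0).injective (congrArg Subtype.val h))
  have hcardS : Nat.card ↥((S : Subgroup ↥M).map e) = r ^ (Nat.card ↥M).factorization r := by
    rw [Nat.card_congr (Subgroup.equivMapOfInjective _ e hinj).toEquiv.symm,
      S.card_eq_multiplicity]
  obtain ⟨m, hm⟩ := MulAction.exists_smul_eq ↥M (Sylow.ofCard _ hcardS) S
  set y := (m : G) * y0 with hydef
  have hyP : ∀ v ∈ P, y * v * y⁻¹ ∈ P ∧ π (y * v * y⁻¹) = π v * π v := by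
    intro v hv
    obtain ⟨v', hv', rfl⟩ := hv
    have e1 : y * (v' : G) * y⁻¹ = m * (y0 * v' * y0⁻¹) * (m : G)⁻¹ := by rw [hydef]; group
    refine ⟨?_, ?_⟩
    · have h1 : m * e v' * m⁻¹ ∈ (m • Sylow.ofCard _ hcardS : Sylow r ↥M) :=
        Subgroup.smul_mem_pointwise_smul _ (MulAut.conj m) _
          (show e v' ∈ (S : Subgroup ↥M).map e from ⟨v', hv', rfl⟩)
      rw [hm] at h1
      exact ⟨_, h1, e1.symm⟩
    · show π (y * (v' : G) * y⁻¹) = π (v' : G) * π v'
      rw [e1, hxy m m.2 _ (hnorm v' v'.2).1, (hnorm v' v'.2).2]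
  -- the map `v ↦ φ v / v²`
  let ψ : ↥P →* ↥P :=
    { toFun := fun v => ⟨y * v * y⁻¹ * ((v : G) * v)⁻¹,
        mul_mem (hyP v v.2).1 (inv_mem (mul_mem v.2 v.2))⟩
      map_one' := Subtype.ext (by simp)
      map_mul' := fun v w => Subtype.ext (by
        show y * ((v : G) * w) * y⁻¹ * ((v : G) * w * ((v : G) * w))⁻¹
          = (y * v * y⁻¹ * ((v : G) * v)⁻¹) * (y * w * y⁻¹ * ((w : G) * w)⁻¹)
        have c := hab P hPr
        have c1 : (v : G) * w * ((v : G) * w) = v * v * (w * w) := by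
          rw [mul_assoc (v : G) w, ← mul_assoc (w : G) v, ← c v v.2 w w.2]
          simp only [mul_assoc]
        have c2 := c (((v : G) * v)⁻¹) (inv_mem (mul_mem v.2 v.2)) (y * w * y⁻¹) (hyP w w.2).1
        have c3 := c (((w : G) * w)⁻¹) (inv_mem (mul_mem w.2 w.2)) (((v : G) * v)⁻¹)
          (inv_mem (mul_mem v.2 v.2))
        calc y * ((v : G) * w) * y⁻¹ * ((v : G) * w * ((v : G) * w))⁻¹
            = y * v * y⁻¹ * (y * w * y⁻¹) * (((w : G) * w)⁻¹ * ((v : G) * v)⁻¹) := by
              rw [c1]; group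
          _ = y * v * y⁻¹ * ((y * w * y⁻¹) * ((v : G) * v)⁻¹) * ((w : G) * w)⁻¹ := by
              rw [c3]; simp only [mul_assoc]
          _ = _ := by rw [← c2]; simp only [mul_assoc]) }
  obtain ⟨v, hv, hv1⟩ : ∃ v : ↥P, ψ v = 1 ∧ v ≠ 1 := by
    by_contra hcon
    push Not at hcon
    have hψ : Function.Injective ψ := (injective_iff_map_eq_one ψ).2 hcon
    obtain ⟨v, hv⟩ := (Finite.injective_iff_surjective.1 hψ) ⟨x0, hx0P⟩
    have h1 := congrArg (fun w : ↥P => π w) hv
    simp only [ψ, MonoidHom.coe_mk, OneHom.coe_mk] at h1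
    rw [map_mul, (hyP v v.2).2, map_inv, map_mul, mul_inv_cancel, hx0π] at h1
    exact hx1 h1.symm
  have hv' : y * (v : G) * y⁻¹ = (v : G) * v := mul_inv_eq_one.1 (congrArg Subtype.val hv)
  obtain ⟨n, hn⟩ := hPr v
  obtain ⟨i, -, hi⟩ := (Nat.dvd_prime_pow hr.out).1 (orderOf_dvd_of_pow_eq_one hn)
  obtain ⟨i', rfl⟩ := Nat.exists_eq_succ_of_ne_zero (show i ≠ 0 from fun h => hv1 (by
    rwa [h, pow_zero, orderOf_eq_one_iff] at hi))
  refine ⟨(v : G) ^ r ^ i', y, ?_, ?_, ?_⟩
  · rw [← pow_mul, ← pow_succ, ← Subgroup.coe_pow, ← hi, pow_orderOf_eq_one, OneMemClass.coe_one]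
  · intro h
    have h' : v ^ r ^ i' = 1 := Subtype.ext (by simpa using h)
    have := orderOf_dvd_of_pow_eq_one h'
    rw [hi, Nat.pow_dvd_pow_iff_le_right hr.out.one_lt] at this
    omega
  · rw [← conj_pow, hv', ← pow_two, ← pow_mul, ← pow_mul, mul_comm]

theorem exists_indep {G : Type*} [Group G] (Z : Subgroup G)
    (hZ : ∀ a ∈ Z, a * a = 1) : ∀ k : ℕ, 2 ^ k ≤ Nat.card ↥Z →
    ∃ l : List G, l.length = k ∧ (∀ a ∈ l, a ∈ Z) ∧ ∀ x ∈ prods l, x ≠ 1 := by
  classical
  intro k
  induction k with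
  | zero => exact fun _ => ⟨[], rfl, by simp, by simp [prods]⟩
  | succ k ih =>
    intro hcard
    obtain ⟨l, hl, hlZ, hlp⟩ := ih (le_trans (Nat.pow_le_pow_right two_pos (Nat.le_succ k)) hcard)
    obtain ⟨a, haZ, hnot⟩ : ∃ a ∈ Z, a ∉ (1 : G) :: prods l := by
      by_contra hcon
      push Not at hcon
      let f : ↥Z → Fin ((1 : G) :: prods l).length := fun z =>
        ⟨_, List.idxOf_lt_length_of_mem (hcon z z.2)⟩
      have h1 := Nat.card_le_card_of_injective f fun z w h => by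
        have h' := congrArg Fin.val h
        exact Subtype.ext ((List.idxOf_inj (hcon z z.2)).1 h')
      have h2 := prods_length l
      rw [Nat.card_fin, List.length_cons, h2, hl] at h1
      exact absurd (hcard.trans h1) (by rw [pow_succ]; have := Nat.two_pow_pos k; omega)
    simp only [List.mem_cons, not_or] at hnot
    refine ⟨a :: l, by simp [hl], ?_, ?_⟩
    · simp only [List.mem_cons, forall_eq_or_imp]
      exact ⟨haZ, hlZ⟩
    · simp only [prods, List.mem_cons, List.mem_append, List.mem_map]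
      rintro x (rfl | hx | ⟨y, hy, rfl⟩)
      · exact hnot.1
      · exact hlp x hx
      · intro h
        refine hnot.2 ?_
        rw [← inv_eq_of_mul_eq_one_right h, inv_eq_of_mul_eq_one_right (hZ a haZ)] at hy
        exact hy

/-- Four independent commuting involutions of a quotient lift when the kernel has odd order. -/
theorem lift_four {G A : Type*} [Group G] [Finite G] [Group A] {π : G →* A}
    (hπ : Function.Surjective π) (hodd : ¬ 2 ∣ Nat.card π.ker) (l : List A)
    (hsq : ∀ a ∈ l, a * a = 1) (hcomm : ∀ a ∈ l, ∀ b ∈ l, a * b = b * a)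
    (hne : ∀ x ∈ prods l, x ≠ 1) :
    ∃ l' : List G, l'.length = l.length ∧ (∀ a ∈ l', a * a = 1) ∧
      (∀ a ∈ l', ∀ b ∈ l', a * b = b * a) ∧ ∀ x ∈ prods l', x ≠ 1 := by
  set E := Subgroup.closure {a | a ∈ l} with hE
  have hEc := Subgroup.isMulCommutative_closure hcomm
  have hc : ∀ a b : ↥E, a * b = b * a := fun a b => hEc.is_comm.comm a b
  have hEsq : ∀ a : ↥E, a * a = 1 := by
    rintro ⟨a, ha⟩
    refine Subtype.ext ?_
    induction ha using Subgroup.closure_induction with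
    | mem x hx => exact hsq x hx
    | one => exact one_mul 1
    | mul x y hx hy ihx ihy =>
        have hxy : x * y = y * x := congrArg Subtype.val (hc ⟨x, hx⟩ ⟨y, hy⟩)
        show x * y * (x * y) = 1
        calc x * y * (x * y) = x * (y * x) * y := by simp only [mul_assoc]
          _ = (x * x) * (y * y) := by rw [← hxy]; simp only [mul_assoc]
          _ = 1 := by rw [show x * x = 1 from ihx, show y * y = 1 from ihy, one_mul]
    | inv x _ ih => show x⁻¹ * x⁻¹ = 1; rw [← mul_inv_rev, show x * x = 1 from ih, inv_one]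
  let π' := π.subgroupComap E
  have hπ' : Function.Surjective π' := fun b => by
    obtain ⟨g, hg⟩ := hπ b.1
    exact ⟨⟨g, by rw [Subgroup.mem_comap, hg]; exact b.2⟩, Subtype.ext hg⟩
  have hker : Nat.card π'.ker ∣ Nat.card π.ker := by
    let f : ↥π'.ker →* ↥π.ker := (((E.comap π).subtype.comp π'.ker.subtype).codRestrict π.ker
      fun g => MonoidHom.mem_ker.2 (congrArg Subtype.val (MonoidHom.mem_ker.1 g.2)))
    exact Subgroup.card_dvd_of_injective f fun a b h =>
      Subtype.ext (Subtype.ext (congrArg (fun z : ↥π.ker => (z : G)) h))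
  have hidx : π'.ker.index = Nat.card ↥E := by
    rw [Subgroup.index_ker, MonoidHom.range_eq_top.2 hπ', Subgroup.card_top]
  have hfE : Finite ↥E := Finite.of_surjective π' hπ'
  have h2E : IsPGroup 2 ↥E := fun a => ⟨1, by rw [pow_one, pow_two]; exact hEsq a⟩
  haveI : Fact (Nat.Prime 2) := ⟨Nat.prime_two⟩
  obtain ⟨n, hn⟩ := IsPGroup.iff_card.1 h2E
  obtain ⟨C, hC⟩ := Subgroup.exists_right_complement'_of_coprime (N := π'.ker) (by
    rw [hidx, hn]
    exact Nat.Coprime.pow_right n ((Nat.prime_two.coprime_iff_not_dvd.2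
      fun h => hodd (h.trans hker)).symm))
  have hinj : Function.Injective (π'.comp C.subtype) := by
    rw [injective_iff_map_eq_one]
    intro c hc
    exact Subtype.ext (Subgroup.disjoint_def.1 hC.disjoint (MonoidHom.mem_ker.2 hc) c.2)
  have hsurj : Function.Surjective (π'.comp C.subtype) := by
    refine ((Nat.bijective_iff_injective_and_card _).2 ⟨hinj, ?_⟩).2
    have h1 := hC.card_mul
    rw [← Subgroup.card_mul_index π'.ker, hidx] at h1
    exact Nat.eq_of_mul_eq_mul_left Nat.card_pos h1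
  let s : ↥E →* G := (E.comap π).subtype.comp (C.subtype.comp
    (MulEquiv.ofBijective _ ⟨hinj, hsurj⟩).symm.toMonoidHom)
  have hs : Function.Injective s := (Subtype.val_injective).comp
    ((Subtype.val_injective).comp (MulEquiv.injective _))
  let lE : List ↥E := l.attach.map fun a => ⟨a.1, Subgroup.subset_closure a.2⟩
  have hlE : lE.map E.subtype = l := by
    simp [lE, List.map_map, Function.comp_def]
  refine ⟨lE.map s, by simp [lE], ?_, ?_, ?_⟩
  · intro a ha
    obtain ⟨b, -, rfl⟩ := List.mem_map.1 ha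
    rw [← map_mul, hEsq, map_one]
  · intro a ha b hb
    obtain ⟨a', -, rfl⟩ := List.mem_map.1 ha
    obtain ⟨b', -, rfl⟩ := List.mem_map.1 hb
    rw [← map_mul, ← map_mul, hc]
  · rw [prods_map]
    intro x hx h
    obtain ⟨z, hz, rfl⟩ := List.mem_map.1 hx
    have h1 : z = 1 := hs (h.trans (map_one s).symm)
    refine hne _ ?_ (show E.subtype z = 1 by rw [h1, map_one])
    rw [← hlE, prods_map]
    exact List.mem_map_of_mem hz

/-- No minimal group of the excluded kind maps onto the alternating group of degree eight. -/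
theorem no_A8_min {G : Type*} [Group G] [Finite G]
    (hab : ∀ P : Subgroup G, IsPGroup 7 ↥P → ∀ u ∈ P, ∀ v ∈ P, u * v = v * u)
    (h16 : ∀ l : List G, l.length = 4 → (∀ a ∈ l, a * a = 1) →
      (∀ a ∈ l, ∀ b ∈ l, a * b = b * a) → (∀ x ∈ prods l, x ≠ 1) → False)
    (h7 : ∀ z x y : G, z * z = 1 → z ≠ 1 → x ^ 7 = 1 → x ≠ 1 → x * z = z * x → y * z = z * y →
      y * x * y⁻¹ = x ^ 2 → False)
    {π : G →* ↥(alternatingGroup (Fin 8))} (hπ : Function.Surjective π)
    (hmin : ∀ S : Subgroup G, S.map π = ⊤ → S = ⊤) : False := by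
  classical
  haveI : Fact (Nat.Prime 2) := ⟨Nat.prime_two⟩
  haveI : Fact (Nat.Prime 7) := ⟨Nat.prime_seven⟩
  by_cases hodd : ¬ 2 ∣ Nat.card π.ker
  · let l8 : List ↥(alternatingGroup (Fin 8)) :=
      fourL.attach.map fun a => ⟨a.1, Equiv.Perm.mem_alternatingGroup.2 (fourL_sign a.1 a.2)⟩
    have hl8 : l8.map (alternatingGroup (Fin 8)).subtype = fourL := by
      simp [l8, List.map_map, Function.comp_def]
    have hmem : ∀ a ∈ l8, (a : Equiv.Perm (Fin 8)) ∈ fourL := fun a ha => by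
      rw [← hl8]; exact List.mem_map_of_mem ha
    obtain ⟨l', h1, h2, h3, h4⟩ := lift_four hπ hodd l8
      (fun a ha => Subtype.ext (fourL_sq _ (hmem a ha)))
      (fun a ha b hb => Subtype.ext (fourL_comm _ (hmem a ha) _ (hmem b hb)))
      (fun x hx h => fourL_prods _ (by
          rw [← hl8, prods_map]; exact List.mem_map_of_mem hx)
        (show (alternatingGroup (Fin 8)).subtype x = 1 by rw [h, map_one]))
    exact h16 l' (h1.trans (by simp [l8, fourL])) h2 h3 h4
  rw [not_not] at hodd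
  -- the Sylow subgroup of the kernel
  let S : Sylow 2 ↥π.ker := default
  set P := (S : Subgroup ↥π.ker).map π.ker.subtype with hP
  have hPn : P.Normal := by
    have h1 : Subgroup.normalizer (P : Set G) ⊔ π.ker = ⊤ := Sylow.normalizer_sup_eq_top S
    have h2 := congrArg (Subgroup.map π) h1
    rw [Subgroup.map_sup, (Subgroup.map_eq_bot_iff _).2 le_rfl, sup_bot_eq,
      Subgroup.map_top_of_surjective π hπ] at h2
    exact Subgroup.normalizer_eq_top_iff.1 (hmin _ h2)
  have hPp : IsPGroup 2 ↥P := S.isPGroup'.map _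
  have hPnt : Nontrivial ↥P := by
    rw [← Finite.one_lt_card_iff_nontrivial, hP, Subgroup.card_subtype, S.card_eq_multiplicity]
    exact Nat.one_lt_pow (Nat.Prime.factorization_pos_of_dvd Nat.prime_two Nat.card_pos.ne'
      hodd).ne' one_lt_two
  let Z : Subgroup G :=
    { carrier := {z | z ∈ P ∧ (∀ w ∈ P, z * w = w * z) ∧ z * z = 1}
      one_mem' := ⟨one_mem _, fun w _ => by simp, one_mul 1⟩
      mul_mem' := fun {a b} ha hb => ⟨mul_mem ha.1 hb.1, fun w hw => by
          rw [mul_assoc, hb.2.1 w hw, ← mul_assoc, ha.2.1 w hw, mul_assoc],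
        by rw [show a * b * (a * b) = a * (b * a) * b by group, ← ha.2.1 b hb.1,
          show a * (a * b) * b = a * a * (b * b) by group, ha.2.2, hb.2.2, one_mul]⟩
      inv_mem' := fun {a} ha => ⟨inv_mem ha.1, fun w hw => (Commute.inv_left (ha.2.1 w hw)).eq,
        by rw [← mul_inv_rev, ha.2.2, inv_one]⟩ }
  have hZn : Z.Normal := ⟨fun z hz g => ⟨hPn.conj_mem z hz.1 g, fun w hw => by
      have hw' : g⁻¹ * w * g ∈ P := by simpa using hPn.conj_mem w hw g⁻¹
      calc g * z * g⁻¹ * w = g * (z * (g⁻¹ * w * g)) * g⁻¹ := by group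
        _ = w * (g * z * g⁻¹) := by rw [hz.2.1 _ hw']; group,
    by rw [show g * z * g⁻¹ * (g * z * g⁻¹) = g * (z * z) * g⁻¹ by group, hz.2.2]; group⟩⟩
  obtain ⟨z, hzZ, hz1⟩ : ∃ z ∈ Z, z ≠ 1 := by
    have hcen : Nontrivial ↥(Subgroup.center ↥P) := hPp.center_nontrivial
    obtain ⟨k, hk⟩ := IsPGroup.iff_card.1 (hPp.to_subgroup (Subgroup.center ↥P))
    have hk1 : 1 < 2 ^ k := hk ▸ Finite.one_lt_card
    obtain ⟨w, hw⟩ := exists_prime_orderOf_dvd_card' (G := ↥(Subgroup.center ↥P)) 2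
      (hk ▸ dvd_pow_self 2 (fun h => by simp [h] at hk1))
    refine ⟨((w : ↥P) : G), ⟨(w : ↥P).2, fun v hv => ?_, ?_⟩, fun h => ?_⟩
    · exact congrArg Subtype.val ((Subgroup.mem_center_iff.1 w.2 ⟨v, hv⟩).symm)
    · have := pow_orderOf_eq_one w
      rw [hw, pow_two] at this
      exact congrArg (fun u : ↥(Subgroup.center ↥P) => ((u : ↥P) : G)) this
    · have : w = 1 := Subtype.ext (Subtype.ext h)
      rw [this, orderOf_one] at hw
      omega
  by_cases hbig : 2 ^ 4 ≤ Nat.card ↥Z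
  · obtain ⟨l, hl, hlZ, hlp⟩ := exists_indep Z (fun a ha => ha.2.2) 4 hbig
    exact h16 l hl (fun a ha => (hlZ a ha).2.2)
      (fun a ha b hb => (hlZ a ha).2.1 b (hlZ b hb).1) hlp
  -- the action on the involutions of `Z`
  have hZp : IsPGroup 2 ↥Z := fun u => ⟨1, Subtype.ext (by
    rw [pow_one, pow_two]; exact u.2.2.2)⟩
  obtain ⟨k, hk⟩ := IsPGroup.iff_card.1 hZp
  have hk3 : k ≤ 3 := by
    by_contra hk4
    exact hbig (hk ▸ Nat.pow_le_pow_right two_pos (by omega))
  let T := {w : ↥Z // w ≠ 1}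
  let act : G →* Equiv.Perm T :=
    { toFun := fun g => (MulAut.conjNormal g : MulAut ↥Z).toEquiv.subtypeEquiv fun w =>
        (MulEquiv.map_ne_one_iff (MulAut.conjNormal g : MulAut ↥Z)).symm
      map_one' := Equiv.ext fun w => Subtype.ext (by simp)
      map_mul' := fun a b => Equiv.ext fun w => Subtype.ext (by simp) }
  have hT : Nat.card T ≤ 7 := by
    have hlt : Nat.card T < Nat.card ↥Z :=
      Finite.card_subtype_lt (x := (1 : ↥Z)) (by simp)
    rw [hk] at hlt
    have : 2 ^ k ≤ 2 ^ 3 := Nat.pow_le_pow_right two_pos hk3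
    omega
  haveI : IsSimpleGroup ↥(alternatingGroup (Fin 8)) :=
    alternatingGroup.isSimpleGroup (by simp)
  rcases ((MonoidHom.normal_ker act).map π hπ).eq_bot_or_eq_top with hbot | htop
  · have h1 : π.ker.index ∣ act.ker.index :=
      Subgroup.index_dvd_of_le ((Subgroup.map_eq_bot_iff _).1 hbot)
    rw [Subgroup.index_ker, Subgroup.index_ker, MonoidHom.range_eq_top.2 hπ,
      Subgroup.card_top] at h1
    have h2 := h1.trans (Subgroup.card_subgroup_dvd_card act.range)
    rw [Nat.card_perm] at h2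
    have h3 : 2 * Nat.card ↥(alternatingGroup (Fin 8)) = Nat.factorial 8 := by
      rw [two_mul_nat_card_alternatingGroup, Nat.card_perm, Nat.card_fin]
    have h4 := Nat.le_of_dvd (Nat.factorial_pos _) h2
    have h5 := Nat.factorial_le hT
    rw [show Nat.factorial 8 = 40320 by rfl] at h3
    rw [show Nat.factorial 7 = 5040 by rfl] at h5
    omega
  have hK := hmin _ htop
  have hcen : ∀ g : G, g * z = z * g := by
    intro g
    have hg : g ∈ act.ker := hK ▸ Subgroup.mem_top g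
    have h1 := congrArg (fun w : T => ((w : ↥Z) : G))
      (Equiv.ext_iff.1 (MonoidHom.mem_ker.1 hg)
        ⟨⟨z, hzZ⟩, fun h => hz1 (congrArg Subtype.val h)⟩)
    simp [act] at h1
    exact mul_inv_eq_iff_eq_mul.1 h1
  obtain ⟨xb, yb, sx, sy, hx7, hx1, hxy⟩ := seven_pair
  obtain ⟨x, y, h1, h2, h3⟩ := lift_pair (r := 7) hab hπ
    (xb := ⟨xb, Equiv.Perm.mem_alternatingGroup.2 sx⟩)
    (yb := ⟨yb, Equiv.Perm.mem_alternatingGroup.2 sy⟩)
    (Subtype.ext (by simpa using hx7)) (fun h => hx1 (congrArg Subtype.val h))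
    (Subtype.ext (by simpa using hxy))
  exact h7 z x y hzZ.2.2 hz1 h1 h2 (hcen x) (hcen y) h3

/-- The alternating group of degree eight is no section of a group of the excluded kind. -/
theorem no_A8 {G : Type*} [Group G] [Finite G]
    (hab : ∀ P : Subgroup G, IsPGroup 7 ↥P → ∀ u ∈ P, ∀ v ∈ P, u * v = v * u)
    (h16 : ∀ l : List G, l.length = 4 → (∀ a ∈ l, a * a = 1) →
      (∀ a ∈ l, ∀ b ∈ l, a * b = b * a) → (∀ x ∈ prods l, x ≠ 1) → False)
    (h7 : ∀ z x y : G, z * z = 1 → z ≠ 1 → x ^ 7 = 1 → x ≠ 1 → x * z = z * x → y * z = z * y →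
      y * x * y⁻¹ = x ^ 2 → False)
    {π : G →* ↥(alternatingGroup (Fin 8))} (hπ : Function.Surjective π) : False := by
  obtain ⟨M, hM, hmin⟩ := (Set.toFinite {S : Subgroup G | S.map π = ⊤}).exists_minimal
    ⟨⊤, Subgroup.map_top_of_surjective π hπ⟩
  refine no_A8_min (G := ↥M) ?_ ?_ ?_ (π := π.comp M.subtype) ?_ ?_
  · intro P hP u hu v hv
    exact Subtype.ext (hab _ (hP.map M.subtype) _ ⟨u, hu, rfl⟩ _ ⟨v, hv, rfl⟩)
  · intro l hl hsq hc hne
    refine h16 (l.map M.subtype) (by simpa using hl) ?_ ?_ ?_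
    · intro a ha
      obtain ⟨b, hb, rfl⟩ := List.mem_map.1 ha
      rw [← map_mul, hsq b hb, map_one]
    · intro a ha b hb
      obtain ⟨a', ha', rfl⟩ := List.mem_map.1 ha
      obtain ⟨b', hb', rfl⟩ := List.mem_map.1 hb
      rw [← map_mul, ← map_mul, hc a' ha' b' hb']
    · rw [prods_map]
      intro x hx h
      obtain ⟨w, hw, rfl⟩ := List.mem_map.1 hx
      exact hne w hw (Subtype.ext h)
  · intro z x y a b c d e f g
    exact h7 z x y (congrArg Subtype.val a) (fun h => b (Subtype.ext h))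
      (by simpa using congrArg Subtype.val c) (fun h => d (Subtype.ext h))
      (congrArg Subtype.val e) (congrArg Subtype.val f) (by simpa using congrArg Subtype.val g)
  · intro b
    have hb : b ∈ M.map π := by rw [show M.map π = ⊤ from hM]; trivial
    obtain ⟨g, hg, rfl⟩ := hb
    exact ⟨⟨g, hg⟩, rfl⟩
  · intro S hS
    rw [← Subgroup.map_map] at hS
    have h1 : M ≤ S.map M.subtype := hmin hS (Subgroup.map_subtype_le S)
    refine eq_top_iff.2 fun x _ => ?_
    obtain ⟨w, hw, e⟩ := h1 x.2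
    rwa [← Subtype.ext (a1 := w) (a2 := x) e]

end Cfsg.Agent.H56.D4Sec
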