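import Cfsg.Agent.H56.D4Sec.Elements
import Cfsg.Agent.H56.D4Sec.Group
import Cfsg.Agent.H37.Twist.D4

/-!
Alternating sections of `³D₄(q)`.
-/
set_option autoImplicit false
set_option maxRecDepth 100000

namespace Cfsg.Agent.H56.D4Sec

open Cfsg.Lie Cfsg.Agent.H37 Cfsg.Agent.H37.RootSys
open Cfsg.Agent.H37.Twist.D4 (endo twisted_le)

variable {K : Type*} [Field K] [Fintype K] {p a : ℕ} [Fact p.Prime] [CharP K p]

theorem card_idx : Fintype.card chevD4.Idx = 28 := by decide +kernel

theorem alt_section (hK : Fintype.card K = (p ^ a) ^ 3) (r : ℕ)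
    (H : Subgroup ↥(twistedD4 K (p ^ a))) (N : Subgroup ↥H) [N.Normal]
    (h : Nonempty (↥H ⧸ N ≃* ↥(alternatingGroup (Fin r)))) :
    r ≤ 6 + (if p = 5 then 1 else 0) := by
  obtain ⟨φ, hφ⟩ := frob_pow K p a
  obtain ⟨e₀⟩ := h
  let π : ↥H →* ↥(alternatingGroup (Fin r)) := e₀.toMonoidHom.comp (QuotientGroup.mk' N)
  have hπ : Function.Surjective π :=
    e₀.surjective.comp (QuotientGroup.mk'_surjective N)
  by_contra hlt
  -- a subgroup with the small quotient
  have key : ∀ m ≤ r, ∃ (M : Subgroup ↥H) (ρ : ↥M →* ↥(alternatingGroup (Fin m))),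
      Function.Surjective ρ := fun m hm => by
    obtain ⟨ι, hι⟩ := exists_altHom hm
    exact exists_sub hπ hι
  -- into the ambient group
  let inc : ∀ M : Subgroup ↥H, ↥M →* ↥(chevD4.group K) := fun M =>
    (Subgroup.inclusion (twisted_le (q := p ^ a))).comp (H.subtype.comp M.subtype)
  have hinc : ∀ M, Function.Injective (inc M) := fun M =>
    (Subgroup.inclusion_injective (twisted_le (q := p ^ a))).comp (Subtype.val_injective.comp Subtype.val_injective)
  have hfix : ∀ (M : Subgroup ↥H) (g : ↥M), (endo φ).σ (inc M g) = inc M g := fun M g =>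
    Twist.D4.le_fixed hφ hK _ (g.1.1).2
  have habel : ∀ (M : Subgroup ↥H) (r : ℕ) [Fact r.Prime], r = 5 ∨ r = 7 → r ≠ p →
      ∀ P : Subgroup ↥M, IsPGroup r ↥P → ∀ u ∈ P, ∀ v ∈ P, u * v = v * u := by
    intro M r _ hr hrp P hP u hu v hv
    refine hinc M ?_
    rw [map_mul, map_mul]
    exact prime_comm hr hrp (hP.map (inc M)) ⟨u, hu, rfl⟩ ⟨v, hv, rfl⟩
  by_cases hp5 : p = 5
  · subst hp5
    rw [if_pos rfl] at hlt
    obtain ⟨M, ρ, hρ⟩ := key 8 (by omega)
    haveI : Fact (Nat.Prime 7) := ⟨Nat.prime_seven⟩
    refine no_A8 (G := ↥M) (habel M 7 (Or.inr rfl) (by norm_num)) ?_ ?_ hρ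
    · intro l hl hsq hc hne
      let ψ : ↥M →* Matrix chevD4.Idx chevD4.Idx K :=
        (Units.coeHom _).comp ((chevD4.group K).subtype.comp (inc M))
      refine no_sixteen card_idx (l.map ψ) (by simpa using hl) ?_ ?_ ?_
      · intro b hb
        obtain ⟨c, hc', rfl⟩ := List.mem_map.1 hb
        rw [← map_mul, hsq c hc', map_one]
      · exact List.pairwise_map.2 (List.pairwise_of_forall_mem_list fun b hb c hc' =>
          (show Commute b c from hc b hb c hc').map ψ)
      · rw [prods_map]
        intro x hx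
        obtain ⟨w, hw, rfl⟩ := List.mem_map.1 hx
        have hw2 : w * w = 1 := by
          have : ∀ (l : List ↥M), (∀ a ∈ l, a * a = 1) → (∀ a ∈ l, ∀ b ∈ l, a * b = b * a) →
              ∀ w ∈ prods l, w * w = 1 := by
            intro l
            induction l with
            | nil => simp [prods]
            | cons a t ih =>
              intro hsq hc w hw
              simp only [prods, List.mem_cons, List.mem_append, List.mem_map] at hw
              have hih := ih (fun b hb => hsq b (by simp [hb]))
                (fun b hb c hc' => hc b (by simp [hb]) c (by simp [hc']))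
              rcases hw with rfl | hw | ⟨y, hy, rfl⟩
              · exact hsq _ (by simp)
              · exact hih w hw
              · have hay : Commute a y :=
                  prods_commute (fun b hb => hc a (by simp) b (by simp [hb])) y hy
                rw [mul_assoc, ← mul_assoc y, ← hay.eq, mul_assoc a y, hih y hy, mul_one,
                  hsq a (by simp)]
          exact this l hsq hc w hw
        exact inv_trace (φ := φ) hφ (by norm_num) (hfix M w)
          (by rw [← map_mul, hw2, map_one])
          (fun e => hne w hw (hinc M (e.trans (map_one _).symm)))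
    · intro z x y h2 hz hx hx1 hxz hyz hyx
      refine no_seven (φ := φ) hφ (by norm_num) (by norm_num) (hfix M z)
        (x := inc M x) (y := inc M y)
        (by rw [← map_mul, h2, map_one]) (fun e => hz (hinc M (e.trans (map_one _).symm)))
        (by rw [← map_pow, hx, map_one]) (fun e => hx1 (hinc M (e.trans (map_one _).symm)))
        (by rw [← map_mul, hxz, map_mul]) (by rw [← map_mul, hyz, map_mul])
        (by rw [← map_pow, ← hyx, map_mul, map_mul, map_inv])
  · rw [if_neg hp5] at hlt
    obtain ⟨M, ρ, hρ⟩ := key 7 (by omega)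
    obtain ⟨xb, yb, sx, sy, hx5, hx1, hxy⟩ := five_pair
    haveI : Fact (Nat.Prime 5) := ⟨Nat.prime_five⟩
    obtain ⟨x, y, h1, h2, h3⟩ := lift_pair (r := 5) (habel M 5 (Or.inl rfl) (Ne.symm hp5)) hρ
      (xb := ⟨xb, Equiv.Perm.mem_alternatingGroup.2 sx⟩)
      (yb := ⟨yb, Equiv.Perm.mem_alternatingGroup.2 sy⟩)
      (Subtype.ext (by simpa using hx5)) (fun h => hx1 (congrArg Subtype.val h))
      (Subtype.ext (by simpa using hxy))
    exact no_five (φ := φ) hφ hp5 (hfix M x) (y := inc M y) (by rw [← map_pow, h1, map_one])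
      (fun e => h2 (hinc M (e.trans (map_one _).symm)))
      (by rw [← map_pow, ← h3, map_mul, map_mul, map_inv])

end Cfsg.Agent.H56.D4Sec
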