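import Cfsg.Agent.H56.D4Sec.Descent
import Cfsg.Agent.H37.Chev.All
import Mathlib.FieldTheory.SplittingField.Construction

/-!
In odd characteristic every involution of `D₄` over a finite field is diagonal over some finite
extension, up to conjugation.
-/
set_option autoImplicit false

namespace Cfsg.Agent.H56.D4Sec

open Cfsg.Lie Cfsg.Agent.H37 Cfsg.Agent.H37.RootSys

universe u

/-- The data of type `D₄`. -/
abbrev QD (F : Type*) [Field F] : Chev.Data chevD4 F where
  X := Chev.typeD4
  K := Chevalley.D4.cert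
  T := Chev.torusOf Chevalley.D4.cert F
  ord := (Chev.dataD4 F).ord
  rel := (Chev.dataD4 F).rel

variable {F : Type*} [Field F] {E : Type*} [Field E] (f : F →+* E)

/-- Extension of scalars. -/
def mapD : ↥(chevD4.group F) →* ↥(chevD4.group E) := mapG (Q := QD F) f

theorem mapD_xr (r : ℕ) (t : F) : mapD f (xr (QD F) r t) = xr (QD E) r (f t) :=
  mapG_xr (Q := QD F) f r t

theorem mapD_H {h : ↥(chevD4.group F)} (hh : h ∈ (QD F).sys.H) :
    mapD f h ∈ (QD E).sys.H :=
  mapG_diag (Q := QD F) f hh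

theorem mapD_XS {S : Set ℕ} {g : ↥(chevD4.group F)} (hg : g ∈ XS (QD F).sys.x S) :
    mapD f g ∈ XS (QD E).sys.x S := by
  have : XS (QD F).sys.x S ≤ (XS (QD E).sys.x S).comap (mapD f) := XS_le fun r hr t => by
    show mapD f (xr (QD F) r t) ∈ XS (QD E).sys.x S
    rw [mapD_xr]
    exact x_mem_XS (x := (QD E).sys.x) (S := S) hr _
  exact this hg

theorem mapD_rep (w : (QD F).X.M.Group) :
    ∃ h ∈ (QD E).sys.H, mapD f ((QD F).sys.rep w) = h * (QD E).sys.rep w := by
  refine Sys.gen_induction (p := fun w => ∃ h ∈ (QD E).sys.H,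
    mapD f ((QD F).sys.rep w) = h * (QD E).sys.rep w) ?_ ?_ w
  · refine ⟨1, one_mem _, ?_⟩
    rw [(QD F).sys.rep_one, map_one, one_mul]
    exact ((QD E).sys.rep_one).symm
  · intro i w ih
    obtain ⟨h, hh, e⟩ := ih
    obtain ⟨k, hk, ek⟩ := (QD F).sys.ns_rep (i := i) w
    obtain ⟨k', hk', ek'⟩ := (QD E).sys.ns_rep (i := i) w
    refine ⟨(mapD f k)⁻¹ * ((QD E).sys.ns i * h * ((QD E).sys.ns i)⁻¹) * k', mul_mem (mul_mem
      (inv_mem (mapD_H f hk)) ((QD E).sys.n_conj_H i i.isLt _ hh)) hk', ?_⟩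
    have e1 : mapD f ((QD F).sys.ns i) = (QD E).sys.ns i := mapG_ns (Q := QD F) f i
    have e2 := congrArg (mapD f) ek
    rw [map_mul, map_mul, e1, e] at e2
    calc mapD f ((QD F).sys.rep ((QD F).X.M.simple i * w))
        = (mapD f k)⁻¹ * ((QD E).sys.ns i * (h * (QD E).sys.rep w)) := by
          rw [e2, inv_mul_cancel_left]
      _ = _ := by rw [mul_assoc _ k', ← ek']; group

theorem mapD_cell {w : (QD F).X.M.Group} {g : ↥(chevD4.group F)} (hg : g ∈ (QD F).sys.cell w) :
    mapD f g ∈ (QD E).sys.cell w := by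
  obtain ⟨u, hu, h, hh, v, hv, rfl⟩ := (QD F).sys.cell_nf hg
  obtain ⟨k, hk, ek⟩ := mapD_rep f w
  have e : mapD f (u * h * (QD F).sys.rep w * v)
      = mapD f u * (mapD f h * k) * (QD E).sys.rep w * mapD f v := by
    rw [map_mul, map_mul, map_mul, ek]; group
  rw [e]
  exact (QD E).sys.nf_mem_cell (mapD_XS f hu) (mul_mem (mapD_H f hh) hk) (mapD_XS f hv)

theorem mapD_comp {L : Type*} [Field L] (g : E →+* L) (z : ↥(chevD4.group F)) :
    mapD (g.comp f) z = mapD g (mapD f z) :=
  Subtype.ext (Units.ext (Matrix.ext fun _ _ => rfl))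

/-- An element of order two of `U H` is conjugate to a diagonal element. -/
theorem toral_base [Finite F] (h2 : (2 : F) ≠ 0) {z : ↥(chevD4.group F)}
    (hz : z ∈ (QD F).sys.cell 1) (hzz : z * z = 1) :
    ∃ g, g * z * g⁻¹ ∈ (QD F).sys.H := by
  obtain ⟨u, hu, h, hh, v, hv, rfl⟩ := (QD F).sys.cell_nf hz
  rw [(QD F).sys.Uw_one, Subgroup.mem_bot] at hv
  subst hv
  rw [(QD F).sys.rep_one, mul_one, mul_one] at hzz ⊢
  set S := (QD F).sys
  have hA : u * (h * u * h⁻¹) ∈ S.U := mul_mem hu (S.H_conj_U hh hu)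
  have e0 : u * (h * u * h⁻¹) * (h * h) = 1 := by rw [← hzz]; group
  have hH : u * (h * u * h⁻¹) ∈ S.H := by
    rw [eq_inv_of_mul_eq_one_left e0]; exact inv_mem (mul_mem hh hh)
  have h1 := S.UH _ hA hH
  have hconj : h * u * h⁻¹ = u⁻¹ := eq_inv_of_mul_eq_one_right h1
  -- a square root of `u`
  have := Fintype.ofFinite F
  have hodd : Odd (Nat.card ↥S.U) := by
    rw [S.card_U, Nat.card_eq_fintype_card]
    exact (Nat.odd_iff.2 (FiniteField.odd_card_of_char_ne_two fun hc => h2 (by
      haveI := ringChar.of_eq hc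
      exact CharP.ofNat_eq_zero F 2))).pow
  obtain ⟨m, hm⟩ := hodd
  have hum : u ^ (2 * m + 1) = 1 := by
    rw [← hm]
    exact congrArg Subtype.val (pow_card_eq_one' (x := (⟨u, hu⟩ : ↥S.U)))
  refine ⟨(u ^ (m + 1))⁻¹, ?_⟩
  have e1 : h * u ^ (m + 1) * h⁻¹ = (u ^ (m + 1))⁻¹ := by
    rw [← conj_pow, hconj, inv_pow]
  have e2 : (u ^ (m + 1))⁻¹ * (u * h) * ((u ^ (m + 1))⁻¹)⁻¹ = h := by
    calc (u ^ (m + 1))⁻¹ * (u * h) * ((u ^ (m + 1))⁻¹)⁻¹
        = (u ^ (m + 1))⁻¹ * u * (h * u ^ (m + 1) * h⁻¹) * h := by group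
      _ = (u ^ (m + 1))⁻¹ * u * (u ^ (m + 1))⁻¹ * h := by rw [e1]
      _ = (u ^ (2 * m + 1))⁻¹ * h := by group
      _ = h := by rw [hum]; group
  rw [e2]
  exact hh

theorem toral_aux (m : ℕ) : ∀ (F : Type u) [Field F] [Finite F], (2 : F) ≠ 0 →
    ∀ (z : ↥(chevD4.group F)) (w : (QD F).X.M.Group), z ∈ (QD F).sys.cell w →
      (QD F).X.good.inv w ≤ m → z * z = 1 →
      ∃ (L : Type u) (_ : Field L) (_ : Finite L) (f : F →+* L) (g : ↥(chevD4.group L)),
        g * mapD f z * g⁻¹ ∈ (QD L).sys.H := by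
  induction m with
  | zero =>
    intro F _ _ h2 z w hz hle hzz
    obtain rfl : w = 1 := (QD F).X.good.eq_one_of_inv_eq_zero (by omega)
    obtain ⟨g, hg⟩ := toral_base h2 hz hzz
    refine ⟨F, inferInstance, inferInstance, RingHom.id F, g, ?_⟩
    have e : mapD (RingHom.id F) z = z := Subtype.ext (Units.ext (Matrix.ext fun _ _ => rfl))
    rw [e]
    exact hg
  | succ m ih =>
    intro F _ _ h2 z w hz hle hzz
    by_cases hlt : (QD F).X.good.inv w ≤ m
    · exact ih F h2 z w hz hlt hzz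
    have hw1 : w ≠ 1 := by rintro rfl; rw [Weyl.Good.inv_one] at hlt; omega
    have hzi : z⁻¹ = z := inv_eq_of_mul_eq_one_left hzz
    have hwi : w⁻¹ = w := (QD F).sys.cell_unique (hzi ▸ (QD F).sys.cell_inv hz) hz
    have step : ∀ (L : Type u) [Field L] [Finite L] (f : F →+* L) (g : ↥(chevD4.group L))
        (w' : (QD L).X.M.Group), (QD L).X.good.inv w' ≤ m →
        g * mapD f z * g⁻¹ ∈ (QD L).sys.cell w' →
        ∃ (L' : Type u) (_ : Field L') (_ : Finite L') (f' : F →+* L') (g' : ↥(chevD4.group L')),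
          g' * mapD f' z * g'⁻¹ ∈ (QD L').sys.H := by
      intro L _ _ f g w' hw' hg
      obtain ⟨L', i1, i2, f', g', h'⟩ := ih L (by
        rw [← map_ofNat f 2]; exact (map_ne_zero f).2 h2) _ w' hg hw' (by
          calc g * mapD f z * g⁻¹ * (g * mapD f z * g⁻¹) = g * (mapD f z * mapD f z) * g⁻¹ := by group
            _ = 1 := by rw [← map_mul, hzz, map_one]; group)
      refine ⟨L', i1, i2, f'.comp f, g' * mapD f' g, ?_⟩
      rw [mapD_comp]
      convert h' using 1
      simp only [map_mul, map_inv]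
      group
    obtain ⟨i, hi, hneg⟩ := (QD F).X.good.exists_descent hw1
    by_cases heq : ((QD F).X.good.hom w
        ⟨chevD4.simple i, ((QD F).X.good.simple_spec hi).2.1⟩).val = chevD4.neg (chevD4.simple i)
    · obtain ⟨g, u, hu, b, c, hc, h, hh, a, ha, e, hn⟩ := exists_shape hi heq hz
      -- a root of the quadratic
      let P : Polynomial F := Polynomial.C c * Polynomial.X ^ 2 + Polynomial.C (c * b) * Polynomial.X +
        Polynomial.C (-1)
      let L := P.SplittingField
      haveI : Finite L := Module.finite_of_finite F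
      let f : F →+* L := algebraMap F L
      have hdeg : P.degree = 2 := Polynomial.degree_quadratic hc
      obtain ⟨t, ht⟩ := (Polynomial.SplittingField.splits P).exists_eval_eq_zero (by
        rw [Polynomial.degree_map, hdeg]; decide)
      have ht' : f c * t ^ 2 + f c * f b * t = 1 := by
        simp only [P, Polynomial.eval_map, Polynomial.eval₂_add, Polynomial.eval₂_mul,
          Polynomial.eval₂_C, Polynomial.eval₂_X_pow, Polynomial.eval₂_X, map_mul, map_neg,
          map_one] at ht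
        simp only [map_one, map_neg, Polynomial.eval₂_neg, Polynomial.eval₂_one] at ht
        linear_combination ht
      obtain ⟨k, hk, ek⟩ := mapD_rep f w
      have em : mapD f (h * (QD F).sys.rep w) = (mapD f h * k) * (QD L).sys.rep w := by
        rw [map_mul, ek]; group
      have hr := ((QD F).X.good.simple_spec hi).2.1
      obtain ⟨c', hc', ec'⟩ := (moves_rep (Q := QD L) w hr).comp
        (moves_H (mul_mem (mapD_H f hh) hk) (Fin.isLt _))
      rw [heq] at ec'
      have hcc : c' = f c := by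
        have h1 := congrArg (mapD f) (hn 1)
        simp only [map_mul, map_inv, mapD_xr, map_one, mul_one] at h1
        rw [ek] at h1
        have h3 := ec' 1
        rw [mul_one] at h3
        refine xr_inj (QD L) ((QD F).K.neg_lt hr) ?_
        rw [← h3, ← h1]
        group
      obtain ⟨g', w', hw', hmem⟩ := descend_shape (Q := QD L) hi heq (mapD_XS f hu) (mapD_XS f ha)
        (mul_mem (mapD_H f hh) hk) (fun s => hcc ▸ ec' s) ht'
      refine step L f (g' * mapD f g) w'
        (Nat.le_of_lt_succ (lt_of_lt_of_le hw' hle)) ?_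
      rw [← em, ← mapD_xr f (chevD4.simple i) b, ← map_mul, ← map_mul, ← map_mul, ← e] at hmem
      convert hmem using 1
      simp only [map_mul, map_inv]
      group
    · obtain ⟨g, w', hw', hmem⟩ := descend_general hi hwi hneg heq hz
      refine step F (RingHom.id F) g w' (Nat.le_of_lt_succ (lt_of_lt_of_le hw' hle)) ?_
      have e : mapD (RingHom.id F) z = z := Subtype.ext (Units.ext (Matrix.ext fun _ _ => rfl))
      rw [e]
      exact hmem

/-- Involutions become diagonal after conjugation over a finite extension. -/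
theorem toral (F : Type u) [Field F] [Finite F] (h2 : (2 : F) ≠ 0) (z : ↥(chevD4.group F))
    (hzz : z * z = 1) :
    ∃ (L : Type u) (_ : Field L) (_ : Finite L) (f : F →+* L) (g : ↥(chevD4.group L)),
      g * mapD f z * g⁻¹ ∈ (QD L).sys.H := by
  obtain ⟨w, hw⟩ := (QD F).sys.exists_cell z
  exact toral_aux _ F h2 z w hw le_rfl hzz

end Cfsg.Agent.H56.D4Sec
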