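import Cfsg.Agent.H56.D4Sec.Codes
import Cfsg.Agent.Arith.SylowGL

/-!
The twisting endomorphism of `D₄` on codes, its compatibility with extension of scalars, and the
classes and traces of involutions of `³D₄(q)`.
-/
set_option autoImplicit false
set_option maxRecDepth 100000

namespace Cfsg.Agent.H56.D4Sec

open Cfsg.Lie Cfsg.Agent.H37 Cfsg.Agent.H37.RootSys
open Cfsg.Agent.H37.Twist.D4 (endo)

variable {K : Type*} [Field K] {L : Type*} [Field L] {q : ℕ}

/-- A property of the generators holds on the group. -/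
theorem agree_of_xr {M : Type*} [Group M] (φ ψ : ↥(chevD4.group K) →* M)
    (h : ∀ r, r < chevD4.nroots → ∀ t, φ (xr (QD K) r t) = ψ (xr (QD K) r t))
    (g : ↥(chevD4.group K)) : φ g = ψ g := by
  suffices e : ∀ x (hx : x ∈ chevD4.group K), φ ⟨x, hx⟩ = ψ ⟨x, hx⟩ from e g.1 g.2
  intro x hx
  induction hx using Subgroup.closure_induction with
  | mem y hy =>
      obtain ⟨r, t, e⟩ := hy
      have e' : (⟨y, Subgroup.subset_closure ⟨r, t, e⟩⟩ : ↥(chevD4.group K))
          = xr (QD K) r.val t := Subtype.ext (Units.ext ((e.trans (x_eq_xMat r.isLt t).symm).trans ((QD K).K.coe_xU K r t).symm))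
      exact (congrArg φ e').trans ((h r r.isLt t).trans (congrArg ψ e').symm)
  | one => exact (map_one φ).trans (map_one ψ).symm
  | mul a b ha hb iha ihb =>
      show φ (⟨a, ha⟩ * ⟨b, hb⟩) = ψ (⟨a, ha⟩ * ⟨b, hb⟩)
      rw [map_mul, map_mul, iha, ihb]
  | inv a ha iha =>
      show φ (⟨a, ha⟩⁻¹) = ψ (⟨a, ha⟩⁻¹)
      rw [map_inv, map_inv, iha]

theorem mapD_endo {φ : K →+* K} {φ' : L →+* L} (hφ : ∀ t, φ t = t ^ q) (hφ' : ∀ t, φ' t = t ^ q)
    (f : K →+* L) (g : ↥(chevD4.group K)) :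
    mapD f ((endo φ).σ g) = (endo φ').σ (mapD f g) := by
  refine agree_of_xr ((mapD f).comp (endo φ).σ) ((endo φ').σ.comp (mapD f)) (fun r hr t => ?_) g
  show mapD f ((endo φ).σ (RootSys.xG (QD K).K K r t)) = (endo φ').σ (mapD f (xr (QD K) r t))
  rw [mapD_xr, show xr (QD L) r (f t) = RootSys.xG (Twist.D4.QD L).K L r (f t) from rfl,
    (endo φ').σ_x r hr, show RootSys.xG (QD K).K K r t = RootSys.xG (Twist.D4.QD K).K K r t from rfl,
    (endo φ).σ_x r hr]
  refine (mapD_xr f _ _).trans ?_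
  show xr (QD L) _ (f ((Sym.dataD4a.sg r : K) * φ t))
    = xr (QD L) _ ((Sym.dataD4a.sg r : L) * φ' (f t))
  rw [map_mul, map_intCast, hφ, hφ', map_pow]
  rfl

/-- The root whose image is a fundamental root. -/
def preSimple (i : Fin 4) : Fin 4 := ![3, 1, 0, 2] i

theorem preSimple_spec (i : Fin 4) :
    Twist.D4.tables.rh (chevD4.simple (preSimple i).val) = chevD4.simple i.val ∧
      chevD4.simple (preSimple i).val ∈ [18, 14, 13, 12, 5, 9, 10, 11] := by
  revert i; decide +kernel

variable [Finite L] {r : ℕ} {j : Multiplicative (ZMod r) →* Lˣ}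

/-- The endomorphism on codes. -/
theorem Code.twist {φ : L →+* L} (hφ : ∀ t, φ t = t ^ q) {h : ↥(chevD4.group L)}
    {u : Fin 4 → ZMod r} (hu : Code j h u) : Code j ((endo φ).σ h) (tri (q : ZMod r) u) := by
  intro i
  obtain ⟨e1, e2⟩ := preSimple_spec i
  have hs := simple_lt4 (preSimple i)
  intro t
  obtain ⟨s, rfl⟩ : ∃ s, φ s = t := Finite.injective_iff_surjective.1 φ.injective t
  have hx : ∀ s, (endo φ).σ (xr (QD L) (chevD4.simple (preSimple i).val) s)
      = xr (QD L) (chevD4.simple i.val) (φ s) := by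
    intro s
    refine ((endo φ).σ_x _ hs s).trans ?_
    rw [Twist.D4.f_pow hφ e2, hφ]
    exact congrArg (fun a => xr (QD L) a (s ^ q)) e1
  have h0 := congrArg (endo φ).σ (hu (preSimple i) s)
  rw [map_mul, map_mul, map_inv, hx, hx, map_mul] at h0
  rw [h0]
  congr 2
  have e3 : tri (q : ZMod r) u i = (q : ZMod r) * u (preSimple i) := by
    fin_cases i <;> rfl
  rw [hφ, ← Units.val_pow_eq_pow_val, e3, rt, rt, ← map_pow, ← ofAdd_nsmul, nsmul_eq_mul]

theorem exists_rt (L : Type*) [Field L] [Finite L] (r : ℕ) (hd : r ∣ Nat.card L - 1) :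
    ∃ j : Multiplicative (ZMod r) →* Lˣ, Function.Injective j :=
  Arith.exists_zmod_hom (C := Lˣ) (m := r) (by rwa [Nat.card_units])

omit [Finite L] in
/-- The diagonal entries of a diagonal element. -/
theorem trace_tG (c : Fin chevD4.rank → Lˣ) :
    Matrix.trace ((Twist.tG (QD L) c : GL chevD4.Idx L) : Matrix chevD4.Idx chevD4.Idx L)
      = 4 + ∑ s : Fin 24, (Twist.chT c s.val : L) := by
  show Matrix.trace ((Chevalley.dU _ : GL chevD4.Idx L) : Matrix chevD4.Idx chevD4.Idx L) = _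
  rw [Chevalley.coe_dU, Matrix.trace_diagonal, Fintype.sum_sum_type]
  congr 1
  simp [Chevalley.pe]
  rfl

theorem sign_sum (z : Fin 3) :
    ∑ s : Fin 24, (if lval (zc z) s.val = 0 then (1 : ℤ) else -1) = -8 := by
  revert z; decide +kernel

omit [Finite L] in
theorem trace_zc {j : Multiplicative (ZMod 2) →* Lˣ} (hj : Function.Injective j) {z : Fin 3}
    {h : ↥(chevD4.group L)} (hh : h ∈ (QD L).sys.H) (hu : Code j h (zc z)) :
    Matrix.trace ((h : GL chevD4.Idx L) : Matrix chevD4.Idx chevD4.Idx L) = -4 := by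
  obtain ⟨c, rfl⟩ := exists_tG hh
  have h1 : (rt j 1 : L) = -1 := by
    have hsq : (rt j 1 : L) * rt j 1 = 1 := by
      rw [← Units.val_mul, rt, ← map_mul, ← ofAdd_add, show (1 + 1 : ZMod 2) = 0 by decide,
        ofAdd_zero, map_one, Units.val_one]
    refine (mul_self_eq_one_iff.1 hsq).resolve_left fun he => ?_
    exact absurd (hj ((Units.ext he : rt j 1 = 1).trans (map_one j).symm)) (by decide)
  have hv : ∀ s : Fin 24, (Twist.chT c s.val : L)
      = ((if lval (zc z) s.val = 0 then (1 : ℤ) else -1 : ℤ) : L) := by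
    intro s
    rw [hu.chT s.isLt]
    split_ifs with e
    · rw [e, rt_zero]; simp
    · have : lval (zc z) s.val = 1 := by
        generalize lval (zc z) s.val = a at e
        revert a; decide
      rw [this, h1]; simp
  rw [trace_tG, Finset.sum_congr rfl fun s _ => hv s, ← Int.cast_sum, sign_sum]
  norm_num

theorem frob_pow (L : Type*) [Field L] (p a : ℕ) [Fact p.Prime] [CharP L p] :
    ∃ φ : L →+* L, ∀ t, φ t = t ^ p ^ a := by
  haveI : ExpChar L p := ExpChar.prime Fact.out
  exact ⟨iterateFrobenius L p a, fun t => iterateFrobenius_def ..⟩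

end Cfsg.Agent.H56.D4Sec
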